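import Mathlib

/-!
# Weights of abelian groups of operators and orbit sums

* `span_weights_eq_top`: a finite abelian group of order invertible in an algebraically closed
  field acts diagonally
* `weights_independent`: weight vectors of different weights are independent
* `exists_fixed_of_orbit`: a vector fixed by a power of an operator whose translates have different
  weights gives a fixed vector of the operator
-/

set_option autoImplicit false
set_option linter.all false

namespace CfsgLib.PGroups.ShultGross

variable {K : Type*} [Field K] [IsAlgClosed K]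
variable {V : Type*} [AddCommGroup V] [Module K V]

/-- A finite abelian group of order invertible in `K` acts diagonally. -/
theorem span_weights_eq_top {H : Type*} [CommGroup H] [Finite H] (hH : (Nat.card H : K) ≠ 0)
    (ρ : H →* Module.End K V) :
    Submodule.span K {v : V | ∃ θ : H →* Kˣ, ∀ h, ρ h v = (θ h : K) • v} = ⊤ := by
  classical
  haveI := Fintype.ofFinite H
  haveI : NeZero (Monoid.exponent H : K) := ⟨fun h => hH (by
    obtain ⟨c, hc⟩ := Group.exponent_dvd_nat_card (G := H)
    rw [hc, Nat.cast_mul, h, zero_mul])⟩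
  haveI : Finite (H →* Kˣ) := Nat.finite_of_card_ne_zero (by
    rw [CommGroup.card_monoidHom_of_hasEnoughRootsOfUnity]; exact Nat.card_pos.ne')
  haveI := Fintype.ofFinite (H →* Kˣ)
  have hsum : ∀ h : H, ∑ θ : H →* Kˣ, ((θ h)⁻¹ : Kˣ).val = if h = 1 then (Nat.card H : K) else 0 := by
    intro h
    split_ifs with h1
    · subst h1
      simp only [map_one, inv_one, Units.val_one, Finset.sum_const, Finset.card_univ, nsmul_one]
      rw [← Nat.card_eq_fintype_card, CommGroup.card_monoidHom_of_hasEnoughRootsOfUnity]
    · obtain ⟨φ, hφ⟩ := CommGroup.exists_apply_ne_one_of_hasEnoughRootsOfUnity H K h1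
      have e : ∑ θ : H →* Kˣ, ((θ h)⁻¹ : Kˣ).val = ((φ h)⁻¹ : Kˣ).val * ∑ θ : H →* Kˣ, ((θ h)⁻¹ : Kˣ).val := by
        conv_lhs => rw [← Equiv.sum_comp (Equiv.mulLeft φ)]
        rw [Finset.mul_sum]
        refine Finset.sum_congr rfl fun θ _ => ?_
        simp only [Equiv.coe_mulLeft, MonoidHom.mul_apply, mul_inv, Units.val_mul]
      by_contra hne
      refine hφ (inv_eq_one.mp (Units.ext ?_))
      exact (mul_left_eq_self₀.mp e.symm).resolve_right hne
  rw [eq_top_iff]
  intro v _
  have hv : v = (Nat.card H : K)⁻¹ • ∑ θ : H →* Kˣ, ∑ h : H, ((θ h)⁻¹ : Kˣ).val • ρ h v := by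
    rw [Finset.sum_comm]
    simp only [← Finset.sum_smul, hsum, ite_smul, zero_smul, Finset.sum_ite_eq', Finset.mem_univ,
      if_true, map_one, Module.End.one_apply, smul_smul, inv_mul_cancel₀ hH, one_smul]
  rw [hv]
  refine Submodule.smul_mem _ _ (sum_mem fun θ _ => Submodule.subset_span ⟨θ, fun g => ?_⟩)
  rw [map_sum, Finset.smul_sum]
  refine Fintype.sum_equiv (Equiv.mulLeft g) _ _ fun h => ?_
  rw [map_smul, Equiv.coe_mulLeft, ← Module.End.mul_apply, ← map_mul, smul_smul, map_mul θ,
    mul_inv, Units.val_mul, ← mul_assoc, Units.mul_inv, one_mul]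

omit [IsAlgClosed K] in
/-- Weight vectors of different weights are independent. -/
theorem weights_independent {X ι : Type*} (f : X → Module.End K V) (χ : ι → X → K) (v : ι → V) :
    ∀ s : Finset ι, Set.InjOn χ (s : Set ι) → (∀ i ∈ s, ∀ x, f x (v i) = χ i x • v i) →
      ∑ i ∈ s, v i = 0 → ∀ i ∈ s, v i = 0 := by
  classical
  intro s
  induction s using Finset.induction generalizing v with
  | empty => simp
  | @insert a s ha ih =>
    intro hinj hw hsum
    rw [Finset.sum_insert ha] at hsum
    have hzero : ∀ x, ∀ i ∈ s, (χ i x - χ a x) • v i = 0 := by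
      intro x
      refine ih (fun i => (χ i x - χ a x) • v i) (hinj.mono (by simp)) (fun i hi y => ?_) ?_
      · rw [map_smul, hw i (Finset.mem_insert_of_mem hi), smul_comm]
      · have h1 := congrArg (f x) hsum
        rw [map_add, map_sum, map_zero, hw a (Finset.mem_insert_self a s),
          Finset.sum_congr rfl fun i hi => hw i (Finset.mem_insert_of_mem hi) x,
          eq_neg_of_add_eq_zero_left hsum, smul_neg, Finset.smul_sum] at h1
        simp only [sub_smul, Finset.sum_sub_distrib]
        rw [neg_add_eq_zero] at h1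
        rw [h1, sub_self]
    have hs : ∀ i ∈ s, v i = 0 := by
      intro i hi
      obtain ⟨x, hx⟩ : ∃ x, χ i x ≠ χ a x := Function.ne_iff.mp fun e => ha
        (hinj (Finset.mem_coe.mpr (Finset.mem_insert_of_mem hi))
          (Finset.mem_coe.mpr (Finset.mem_insert_self a s)) e ▸ hi)
      exact (smul_eq_zero.mp (hzero x i hi)).resolve_left (sub_ne_zero.mpr hx)
    intro i hi
    rcases Finset.mem_insert.mp hi with rfl | hi
    · rwa [Finset.sum_eq_zero hs, add_zero] at hsum
    · exact hs i hi

omit [IsAlgClosed K] in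
/-- An orbit of different weights gives a fixed vector. -/
theorem exists_fixed_of_orbit {X : Type*} (f : X → Module.End K V) {S : Module.End K V}
    {d : ℕ} (hd : 0 < d) (χ : ℕ → X → K) {w : V} (hw : w ≠ 0)
    (hfix : (S ^ d) w = w) (hweight : ∀ i, i < d → ∀ x, f x ((S ^ i) w) = χ i x • (S ^ i) w)
    (hne : ∀ i j, i < j → j < d → χ i ≠ χ j) :
    (∑ i ∈ Finset.range d, (S ^ i) w) ≠ 0 ∧
      S (∑ i ∈ Finset.range d, (S ^ i) w) = ∑ i ∈ Finset.range d, (S ^ i) w := by
  refine ⟨fun h0 => hw ?_, ?_⟩
  · have := weights_independent f χ (fun i => (S ^ i) w) (Finset.range d) ?_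
      (fun i hi => hweight i (Finset.mem_range.mp hi)) h0 0 (Finset.mem_range.mpr hd)
    · simpa using this
    · intro i hi j hj e
      rcases lt_trichotomy i j with h | h | h
      · exact absurd e (hne i j h (Finset.mem_range.mp (Finset.mem_coe.mp hj)))
      · exact h
      · exact absurd e.symm (hne j i h (Finset.mem_range.mp (Finset.mem_coe.mp hi)))
  · rw [map_sum]
    simp only [← Module.End.mul_apply, ← pow_succ']
    have h1 := Finset.sum_range_succ' (fun i => (S ^ i) w) d
    have h2 := Finset.sum_range_succ (fun i => (S ^ i) w) d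
    rw [h1, hfix, pow_zero, Module.End.one_apply] at h2
    exact add_right_cancel h2

end CfsgLib.PGroups.ShultGross
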