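import Mathlib
import Cfsg.Agent.Lib.PGroups.ShultGross.Weights
import Cfsg.Agent.Lib.Core.HHCritical.Main

/-!
# A fixed point free operator on a twisted group algebra

`card_eq_sub_one_sq`: operators `e a` (`a` in an abelian group `E`) multiply up to scalars with
nondegenerate commutation, `β` of odd order `m` normalises them, permuting the non-identity
labels freely, and has no fixed vector. Then `|E| = (m - 1) ^ 2`.
-/

set_option autoImplicit false
set_option linter.all false

namespace CfsgLib.PGroups.ShultGross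

open Module

variable {K : Type*} [Field K]

/-- The eigenspace of a diagonal operator. -/
theorem finrank_diag_eigenspace {W κ : Type*} [AddCommGroup W] [Module K W] [Fintype κ]
    (b : Basis κ K W) (C : Module.End K W) (c : κ → K) (hC : ∀ k, C (b k) = c k • b k) (μ : K) :
    finrank K (Module.End.eigenspace C μ) = Nat.card {k // c k = μ} := by
  classical
  have hrepr : ∀ X k, b.repr (C X) k = c k * b.repr X k := by
    intro X k
    conv_lhs => rw [← b.sum_repr X]
    simp only [map_sum, map_smul, hC, smul_smul, b.repr_self, Finsupp.coe_finset_sum,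
      Finset.sum_apply, Finsupp.smul_apply, Finsupp.single_apply, smul_eq_mul]
    rw [Finset.sum_eq_single k (fun j _ hj => by simp [hj]) (by simp)]
    simp [mul_comm]
  have hspan : Module.End.eigenspace C μ = Submodule.span K (Set.range fun k : {k // c k = μ} => b k) := by
    refine le_antisymm (fun X hX => ?_) (Submodule.span_le.mpr ?_)
    · rw [← b.sum_repr X]
      refine sum_mem fun k _ => ?_
      by_cases hk : c k = μ
      · exact Submodule.smul_mem _ _ (Submodule.subset_span ⟨⟨k, hk⟩, rfl⟩)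
      · have h1 := congrArg (fun Y => b.repr Y k) (Module.End.mem_eigenspace_iff.mp hX)
        simp only [hrepr, map_smul, Finsupp.smul_apply, smul_eq_mul] at h1
        rw [(mul_eq_mul_right_iff.mp h1).resolve_left hk, zero_smul]
        exact zero_mem _
    · rintro _ ⟨k, rfl⟩
      rw [SetLike.mem_coe, Module.End.mem_eigenspace_iff, hC, k.2]
  rw [hspan, finrank_span_eq_card (b := fun k : {k // c k = μ} => b k) (b.linearIndependent.comp _ Subtype.val_injective),
    Nat.card_eq_fintype_card]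

/-- Weights avoiding zero whose differences are almost uniform are distinct. -/
theorem injective_of_uniform_differences {ι : Type*} [Fintype ι] {m : ℕ} [NeZero m]
    (ε : ι → ZMod m) (h0 : ∀ x, ε x ≠ 0)
    (hN : ∀ t : ZMod m, t ≠ 0 →
      Nat.card {xy : ι × ι // ε xy.1 - ε xy.2 = t} + 1 =
        Nat.card {xy : ι × ι // ε xy.1 - ε xy.2 = 0})
    {x y : ι} (hne : x ≠ y) : ε x ≠ ε y := by
  intro hxy
  classical
  let N : ZMod m → ℕ := fun t => Nat.card {xy : ι × ι // ε xy.1 - ε xy.2 = t}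
  let nn : ZMod m → ℤ := fun j => ∑ x : ι, if ε x = j then 1 else 0
  have hconv : ∀ t, ∑ j, nn j * nn (j + t) = (N t : ℤ) := by
    intro t
    have e : (N t : ℤ) = ∑ x : ι, ∑ y : ι, if ε x - ε y = t then 1 else 0 := by
      show ((Nat.card {xy : ι × ι // ε xy.1 - ε xy.2 = t} : ℕ) : ℤ) = _
      rw [Nat.card_eq_fintype_card, Fintype.card_subtype, ← Fintype.sum_prod_type',
        Finset.sum_boole]
    rw [e]
    simp only [nn, Finset.sum_mul_sum]
    rw [Finset.sum_comm, Finset.sum_comm (s := (Finset.univ : Finset ι)) (t := (Finset.univ : Finset ι))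
      (f := fun x y => if ε x - ε y = t then (1 : ℤ) else 0)]
    refine Finset.sum_congr rfl fun y _ => ?_
    rw [Finset.sum_comm]
    refine Finset.sum_congr rfl fun x _ => ?_
    rw [Finset.sum_eq_single (ε y) (fun j _ hj => by rw [if_neg (Ne.symm hj), zero_mul]) (by simp),
      if_pos rfl, one_mul]
    by_cases h : ε x = ε y + t
    · rw [if_pos h, if_pos (by rw [h]; abel)]
    · rw [if_neg h, if_neg fun e' => h (by rw [← e']; abel)]
  obtain ⟨t, ht, htx⟩ : ∃ t, t ≠ 0 ∧ ε x = t := ⟨_, h0 x, rfl⟩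
  have hn2 : 2 ≤ nn t := by
    have h1 : ({x, y} : Finset ι).sum (fun z => if ε z = t then (1 : ℤ) else 0) ≤ nn t :=
      Finset.sum_le_sum_of_subset_of_nonneg (Finset.subset_univ _) fun z _ _ => by positivity
    rw [Finset.sum_pair hne, if_pos htx, if_pos (hxy ▸ htx)] at h1
    linarith
  have hnn0 : nn 0 = 0 := Finset.sum_eq_zero fun z _ => if_neg (h0 z)
  have hsq : ∑ j, (nn j - nn (j + t)) ^ 2 = 2 := by
    have e1 : ∑ j, nn (j + t) ^ 2 = ∑ j, nn j ^ 2 :=
      Equiv.sum_comp (Equiv.addRight t) (fun j => nn j ^ 2)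
    have e2 := hconv t
    have e3 := hconv 0
    have e4 : (N t : ℤ) + 1 = N 0 := by exact_mod_cast hN t ht
    simp only [add_zero, ← sq] at e3
    have e5 : ∑ j, (nn j - nn (j + t)) ^ 2 =
        ∑ j, nn j ^ 2 + ∑ j, nn (j + t) ^ 2 - 2 * ∑ j, nn j * nn (j + t) := by
      rw [Finset.mul_sum, ← Finset.sum_add_distrib, ← Finset.sum_sub_distrib]
      exact Finset.sum_congr rfl fun j _ => by ring
    rw [e5, e1, e2, e3]; linarith
  have hne0 : (0 : ZMod m) ≠ -t := fun e => ht (neg_eq_zero.mp e.symm)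
  have h2 := Finset.sum_le_sum_of_subset_of_nonneg (f := fun j => (nn j - nn (j + t)) ^ 2)
    (Finset.subset_univ ({0, -t} : Finset (ZMod m))) (fun j _ _ => sq_nonneg _)
  rw [hsq, Finset.sum_pair hne0, zero_add, neg_add_cancel, hnn0] at h2
  nlinarith

/-- The combinatorial part: weights avoiding zero whose differences are almost uniform. -/
theorem card_eq_of_uniform_differences {ι : Type*} [Fintype ι] {m : ℕ} [NeZero m]
    (hn : 2 ≤ Fintype.card ι) (ε : ι → ZMod m) (h0 : ∀ x, ε x ≠ 0)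
    (hN : ∀ t : ZMod m, t ≠ 0 →
      Nat.card {xy : ι × ι // ε xy.1 - ε xy.2 = t} + 1 =
        Nat.card {xy : ι × ι // ε xy.1 - ε xy.2 = 0}) :
    Fintype.card ι = m - 1 := by
  classical
  let N : ZMod m → ℕ := fun t => Nat.card {xy : ι × ι // ε xy.1 - ε xy.2 = t}
  have hinj : Function.Injective ε := fun x y hxy => by
    by_contra hne
    exact injective_of_uniform_differences ε h0 hN hne hxy
  have h00 : N 0 = Fintype.card ι := by
    show Nat.card {xy : ι × ι // ε xy.1 - ε xy.2 = 0} = _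
    rw [← Nat.card_eq_fintype_card]
    exact Nat.card_congr
      { toFun := fun xy => xy.1.1
        invFun := fun x => ⟨(x, x), sub_self _⟩
        left_inv := fun xy => Subtype.ext (Prod.ext rfl (hinj (sub_eq_zero.mp xy.2)))
        right_inv := fun x => rfl }
  have htot : ∑ t, N t = Fintype.card ι * Fintype.card ι := by
    rw [← Fintype.card_prod, ← Nat.card_eq_fintype_card,
      Nat.card_congr (Equiv.sigmaFiberEquiv fun xy : ι × ι => ε xy.1 - ε xy.2).symm, Nat.card_sigma]
  obtain ⟨k, hk⟩ : ∃ k, Fintype.card ι = k + 1 := ⟨_, (Nat.sub_add_cancel (by omega)).symm⟩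
  have hrest : ∑ t, N t = Fintype.card ι + (m - 1) * k := by
    rw [← Finset.add_sum_erase Finset.univ N (Finset.mem_univ 0), h00,
      Finset.sum_congr rfl (g := fun _ => k) fun t ht => by
        have h : N t + 1 = N 0 := hN t (Finset.ne_of_mem_erase ht)
        omega,
      Finset.sum_const, Finset.card_erase_of_mem (Finset.mem_univ _), Finset.card_univ,
      ZMod.card, smul_eq_mul]
  rw [htot, hk] at hrest
  have : (k + 1) * k = (m - 1) * k := by nlinarith
  have hk0 : 0 < k := by omega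
  rw [hk]
  exact Nat.eq_of_mul_eq_mul_right hk0 this

variable [IsAlgClosed K] {U : Type*} [AddCommGroup U] [Module K U] [FiniteDimensional K U]
  [Nontrivial U] {E : Type*} [CommGroup E] [Finite E]

/-- The hypotheses on the operators. -/
structure Twisted (e : E → Module.End K U) (c : E → E → K) : Prop where
  c_ne : ∀ a b, c a b ≠ 0
  mul : ∀ a b, e a * e b = c a b • e (a * b)
  one : e 1 = 1
  nondeg : ∀ a, a ≠ 1 → ∃ b, e a * e b ≠ e b * e a

namespace Twisted

/-- The commutation factor. -/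
noncomputable def κ {e : E → Module.End K U} {c : E → E → K} (_h : Twisted e c) (a b : E) : K :=
  c a b / c b a

variable {e : E → Module.End K U} {c : E → E → K} (h : Twisted e c)
include h

/-- The inverse of an operator. -/
theorem exists_unit (a : E) : ∃ u : (Module.End K U)ˣ, (u : Module.End K U) = e a := by
  have h1 : e a * ((c a a⁻¹)⁻¹ • e a⁻¹) = 1 := by
    rw [mul_smul_comm, h.mul, mul_inv_cancel, h.one, smul_smul, inv_mul_cancel₀ (h.c_ne _ _), one_smul]
  have h2 : ((c a⁻¹ a)⁻¹ • e a⁻¹) * e a = 1 := by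
    rw [smul_mul_assoc, h.mul, inv_mul_cancel, h.one, smul_smul, inv_mul_cancel₀ (h.c_ne _ _), one_smul]
  have h3 : (c a⁻¹ a)⁻¹ • e a⁻¹ = (c a a⁻¹)⁻¹ • e a⁻¹ := left_inv_eq_right_inv h2 h1
  exact ⟨⟨e a, _, h1, h3 ▸ h2⟩, rfl⟩

/-- The unit of an operator. -/
noncomputable def u (a : E) : (Module.End K U)ˣ := Classical.choose (h.exists_unit a)

theorem u_val (a : E) : (h.u a : Module.End K U) = e a := Classical.choose_spec (h.exists_unit a)

/-- Conjugation by an operator. -/
noncomputable def conj (a : E) (X : Module.End K U) : Module.End K U :=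
  e a * X * ↑(h.u a)⁻¹

theorem inv_mul_e (a : E) : (↑(h.u a)⁻¹ : Module.End K U) * e a = 1 := by
  rw [← h.u_val a, Units.inv_mul]

theorem e_mul_inv (a : E) : e a * (↑(h.u a)⁻¹ : Module.End K U) = 1 := by
  rw [← h.u_val a, Units.mul_inv]

theorem inv_inv_mul (a b : E) : (↑(h.u a)⁻¹ : Module.End K U) * ↑(h.u b)⁻¹ =
    (c b a)⁻¹ • ↑(h.u (b * a))⁻¹ := by
  refine left_inv_eq_right_inv (a := e b * e a) ?_ ?_
  · rw [mul_assoc, ← mul_assoc (↑(h.u b)⁻¹ : Module.End K U), h.inv_mul_e, one_mul, h.inv_mul_e]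
  · rw [h.mul, smul_mul_smul_comm, mul_inv_cancel₀ (h.c_ne _ _), h.e_mul_inv, one_smul]

theorem conj_conj (b a : E) (X : Module.End K U) : h.conj b (h.conj a X) = h.conj (b * a) X := by
  unfold conj
  rw [show e b * (e a * X * ↑(h.u a)⁻¹) * ↑(h.u b)⁻¹ =
    (e b * e a) * X * (↑(h.u a)⁻¹ * ↑(h.u b)⁻¹) by simp only [mul_assoc], h.mul, h.inv_inv_mul,
    smul_mul_assoc, smul_mul_smul_comm, mul_inv_cancel₀ (h.c_ne _ _), one_smul]

theorem conj_smul (a : E) (k : K) (X : Module.End K U) : h.conj a (k • X) = k • h.conj a X := by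
  unfold conj; rw [mul_smul_comm, smul_mul_assoc]

theorem ne_zero (a : E) : e a ≠ 0 := by
  rw [← h.u_val a]; exact (h.u a).ne_zero

theorem κ_ne (a b : E) : h.κ a b ≠ 0 := div_ne_zero (h.c_ne _ _) (h.c_ne _ _)

theorem comm (a b : E) : e a * e b = h.κ a b • (e b * e a) := by
  rw [h.mul, h.mul, smul_smul, κ, div_mul_cancel₀ _ (h.c_ne _ _), mul_comm b a]

theorem conj_e (a b : E) : h.conj a (e b) = h.κ a b • e b := by
  rw [conj, h.comm, smul_mul_assoc, mul_assoc, h.e_mul_inv, mul_one]

theorem κ_mul (a a' b : E) : h.κ (a * a') b = h.κ a b * h.κ a' b := by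
  have h1 : h.conj a (h.conj a' (e b)) = h.conj (a * a') (e b) := h.conj_conj a a' _
  rw [h.conj_e, h.conj_smul, h.conj_e, h.conj_e, smul_smul] at h1
  have := smul_left_injective K (h.ne_zero b) h1
  rw [← this, mul_comm]

theorem exists_κ_ne_one {a : E} (ha : a ≠ 1) : ∃ b, h.κ b a ≠ 1 := by
  obtain ⟨b, hb⟩ := h.nondeg a ha
  refine ⟨b, fun hκ => hb ?_⟩
  rw [h.comm b a, hκ, one_smul]

theorem sum_κ [Fintype E] (a : E) [Decidable (a = 1)] :
    ∑ b, h.κ b a = if a = 1 then (Nat.card E : K) else 0 := by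
  split_ifs with ha
  · subst ha
    rw [Finset.sum_congr rfl (g := fun _ => (1 : K)) (fun b _ => by
      have h1 := h.conj_e b 1
      rw [h.one, conj, mul_one, h.e_mul_inv] at h1
      exact (smul_left_injective K (one_ne_zero (α := Module.End K U))
        (show (1 : K) • (1 : Module.End K U) = h.κ b 1 • 1 by rw [one_smul]; exact h1)).symm)]
    simp [Nat.card_eq_fintype_card]
  · obtain ⟨b₀, hb₀⟩ := h.exists_κ_ne_one ha
    have e1 : ∑ b, h.κ b a = h.κ b₀ a * ∑ b, h.κ b a := by
      conv_lhs => rw [← Equiv.sum_comp (Equiv.mulLeft b₀)]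
      rw [Finset.mul_sum]
      exact Finset.sum_congr rfl fun b _ => h.κ_mul b₀ b a
    by_contra hne
    exact hb₀ ((mul_left_eq_self₀.mp e1.symm).resolve_right hne)

/-- The averaged operator. -/
noncomputable def avg [Fintype E] (X : Module.End K U) : Module.End K U := ∑ a, h.conj a X

theorem avg_smul [Fintype E] (k : K) (X : Module.End K U) : h.avg (k • X) = k • h.avg X := by
  unfold avg; rw [Finset.smul_sum]; exact Finset.sum_congr rfl fun a _ => h.conj_smul a k X

theorem avg_conj [Fintype E] (b : E) (X : Module.End K U) : h.avg (h.conj b X) = h.avg X := by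
  unfold avg
  simp only [h.conj_conj]
  exact Equiv.sum_comp (Equiv.mulRight b) fun a => h.conj a X

theorem commute_avg [Fintype E] (b : E) (X : Module.End K U) : Commute (e b) (h.avg X) := by
  have h1 : h.conj b (h.avg X) = h.avg X := by
    unfold avg
    conv_rhs => rw [← Equiv.sum_comp (Equiv.mulLeft b)]
    simp only [Equiv.coe_mulLeft, ← h.conj_conj]
    simp only [conj, Finset.mul_sum, Finset.sum_mul]
  calc e b * h.avg X = e b * h.avg X * ↑(h.u b)⁻¹ * e b := by rw [mul_assoc _ _ (e b), h.inv_mul_e, mul_one]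
    _ = h.avg X * e b := by rw [show e b * h.avg X * ↑(h.u b)⁻¹ = h.avg X from h1]

theorem expansion [Fintype E] (X : Module.End K U) :
    ∑ d, e d * h.avg (↑(h.u d)⁻¹ * X) = (Nat.card E : K) • X := by
  classical
  have hterm : ∀ d a, e d * h.conj a (↑(h.u d)⁻¹ * X) = h.κ d a • h.conj a X := by
    intro d a
    unfold conj
    calc e d * (e a * (↑(h.u d)⁻¹ * X) * ↑(h.u a)⁻¹)
        = (e d * e a) * ↑(h.u d)⁻¹ * X * ↑(h.u a)⁻¹ := by simp only [mul_assoc]
      _ = h.κ d a • (e a * X * ↑(h.u a)⁻¹) := by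
        rw [h.comm d a, smul_mul_assoc, smul_mul_assoc, smul_mul_assoc, mul_assoc (e a) (e d),
          h.e_mul_inv, mul_one]
  simp only [avg, Finset.mul_sum, hterm]
  rw [Finset.sum_comm]
  simp only [← Finset.sum_smul, h.sum_κ, ite_smul, zero_smul, Finset.sum_ite_eq',
    Finset.mem_univ, if_true]
  rw [conj, h.one, one_mul]
  have : (↑(h.u 1)⁻¹ : Module.End K U) = 1 := by
    have := h.inv_mul_e 1
    rwa [h.one, mul_one] at this
  rw [this, mul_one]

end Twisted

/-- The counting on an irreducible space. -/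
theorem card_of_irreducible {e : E → Module.End K U} {c : E → E → K} (h : Twisted e c)
    (hirr : ∀ S : Submodule K U, (∀ a, ∀ v ∈ S, e a v ∈ S) → S = ⊥ ∨ S = ⊤)
    (hE : (Nat.card E : K) ≠ 0) (hE2 : 1 < Nat.card E) {φ : MulAut E} {m : ℕ}
    (hmK : (m : K) ≠ 0) (hφm : φ ^ m = 1)
    (hfree : ∀ i, 0 < i → i < m → ∀ a, (φ ^ i) a = a → a = 1)
    (β : Module.End K U) (s : E → K) (hβe : ∀ a, β * e a = s a • (e (φ a) * β))
    (hβm : β ^ m = 1) (hfix : ∀ v, β v = v → v = 0) :
    Nat.card E = (m - 1) ^ 2 ∧ ∀ μ : K, μ ^ m = 1 → μ ≠ 1 → ∃ v, v ≠ 0 ∧ β v = μ • v := by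
  classical
  haveI := Fintype.ofFinite E
  haveI : NeZero m := ⟨by rintro rfl; simp at hmK⟩
  -- every averaged operator is a scalar
  have hscalar : ∀ X : Module.End K U, ∃ k : K, h.avg X = k • (1 : Module.End K U) := by
    intro X
    obtain ⟨k, hk⟩ := Module.End.exists_eigenvalue (h.avg X)
    refine ⟨k, ?_⟩
    rcases hirr (Module.End.eigenspace (h.avg X) k) (fun a v hv => by
      rw [Module.End.mem_eigenspace_iff] at hv ⊢
      rw [← Module.End.mul_apply, ← (h.commute_avg a X).eq, Module.End.mul_apply, hv, map_smul]) with hS | hS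
    · exact absurd hS hk
    · refine LinearMap.ext fun v => ?_
      have : v ∈ Module.End.eigenspace (h.avg X) k := hS ▸ Submodule.mem_top
      rw [Module.End.mem_eigenspace_iff] at this
      rw [this, LinearMap.smul_apply, Module.End.one_apply]
  -- the operators form a basis
  have hind : LinearIndependent K e := by
    rw [Fintype.linearIndependent_iff]
    intro g hg a
    have h1 := weights_independent (V := Module.End K U)
      (fun x => (LinearMap.mulRight K (↑(h.u x)⁻¹ : Module.End K U)).comp (LinearMap.mulLeft K (e x)))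
      (fun i x => h.κ x i) (fun i => g i • e i) Finset.univ ?_ (fun i _ x => ?_) hg a (Finset.mem_univ a)
    · exact (smul_eq_zero.mp h1).resolve_right (h.ne_zero a)
    · intro i _ j _ hij
      by_contra hne
      obtain ⟨x, hx⟩ := h.exists_κ_ne_one (a := i * j⁻¹) (by rwa [Ne, mul_inv_eq_one])
      refine hx ?_
      have e1 : h.conj x (e (i * j⁻¹) * e j) = h.κ x (i * j⁻¹) • (h.κ x j • (e (i * j⁻¹) * e j)) := by
        rw [show h.conj x (e (i * j⁻¹) * e j) = h.conj x (e (i * j⁻¹)) * h.conj x (e j) by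
          unfold Twisted.conj
          simp only [mul_assoc]
          rw [← mul_assoc (↑(h.u x)⁻¹ : Module.End K U) (e x), h.inv_mul_e, one_mul],
          h.conj_e, h.conj_e, smul_mul_smul_comm, smul_smul]
      rw [h.mul, inv_mul_cancel_right, h.conj_smul, h.conj_e] at e1
      simp only [smul_smul] at e1
      have e2 := smul_left_injective K (h.ne_zero i) e1
      have e3 : h.κ x i = h.κ x j := congrFun hij x
      rw [e3] at e2
      have : (1 : K) * (h.κ x j * c (i * j⁻¹) j) = h.κ x (i * j⁻¹) * (h.κ x j * c (i * j⁻¹) j) := by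
        rw [one_mul]
        linear_combination e2
      exact (mul_right_cancel₀ (mul_ne_zero (h.κ_ne _ _) (h.c_ne _ _)) this).symm
    · show e x * (g i • e i) * ↑(h.u x)⁻¹ = _
      rw [show e x * (g i • e i) * ↑(h.u x)⁻¹ = h.conj x (g i • e i) from rfl, h.conj_smul, h.conj_e,
        smul_comm]
  have hspan : ⊤ ≤ Submodule.span K (Set.range e) := by
    intro X _
    have h1 : (Nat.card E : K) • X ∈ Submodule.span K (Set.range e) := by
      rw [← h.expansion X]
      refine sum_mem fun d _ => ?_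
      obtain ⟨k, hk⟩ := hscalar (↑(h.u d)⁻¹ * X)
      rw [hk, mul_smul_comm, mul_one]
      exact Submodule.smul_mem _ _ (Submodule.subset_span ⟨d, rfl⟩)
    have h2 := Submodule.smul_mem _ (Nat.card E : K)⁻¹ h1
    rwa [smul_smul, inv_mul_cancel₀ hE, one_smul] at h2
  let be : Basis E K (Module.End K U) := Basis.mk hind hspan
  have hbe : ∀ a, be a = e a := fun a => Basis.mk_apply hind hspan a
  -- conjugation by `β`
  obtain ⟨m', rfl⟩ : ∃ m', m = m' + 1 := ⟨m - 1, (Nat.succ_pred_eq_of_pos (NeZero.pos m)).symm⟩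
  let C : Module.End K (Module.End K U) :=
    (LinearMap.mulRight K (β ^ m')).comp (LinearMap.mulLeft K β)
  have hCe : ∀ a, C (e a) = s a • e (φ a) := fun a => by
    show β * e a * β ^ m' = _
    rw [hβe, smul_mul_assoc, mul_assoc, ← pow_succ', hβm, mul_one]
  have hs1 : s 1 = 1 := by
    have h1 := hCe 1
    rw [map_one, h.one, show C 1 = β * 1 * β ^ m' from rfl, mul_one, ← pow_succ', hβm] at h1
    exact (smul_left_injective K (one_ne_zero (α := Module.End K U))
      (show (1 : K) • (1 : Module.End K U) = s 1 • 1 by rw [one_smul]; exact h1)).symm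
  have hs0 : ∀ a, s a ≠ 0 := fun a h0 => h.ne_zero a (by
    have h1 := hβe a
    rw [h0, zero_smul] at h1
    calc e a = β ^ (m' + 1) * e a := by rw [hβm, one_mul]
      _ = β ^ m' * (β * e a) := by rw [pow_succ, mul_assoc]
      _ = 0 := by rw [h1, mul_zero])
  obtain ⟨ω, hω⟩ : ∃ ω : K, IsPrimitiveRoot ω (m' + 1) :=
    haveI : NeZero ((m' + 1 : ℕ) : K) := ⟨hmK⟩
    HasEnoughRootsOfUnity.exists_primitiveRoot K (m' + 1)
  let w : ZMod (m' + 1) → K := fun t => ω ^ t.val
  have hw0 : w 0 = 1 := by simp [w]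
  have hwadd : ∀ a b, w (a + b) = w a * w b := fun a b => by
    simp only [w, ← pow_add, ZMod.val_add]
    exact (pow_eq_pow_mod _ hω.pow_eq_one).symm
  have hwinj : Function.Injective w := fun a b hab =>
    ZMod.val_injective _ (hω.pow_inj (ZMod.val_lt a) (ZMod.val_lt b) hab)
  have hwne : ∀ a, w a ≠ 0 := fun a => pow_ne_zero _ (hω.ne_zero (Nat.succ_ne_zero _))
  -- positions in the free orbits
  obtain ⟨R, hR⟩ := Core.HHCritical.exists_orbit_reps (MulAut.toPerm E φ) (m' + 1) (Nat.succ_pos _)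
    (by rw [← map_pow, hφm, map_one]) (fun a => a ≠ 1) (fun a ha i hi1 hi2 hia => ha (hfree i hi1 hi2 a (by
      rw [← map_pow] at hia; exact hia)))
  let pos : E → ℕ := fun a => if ha : a ≠ 1 then Classical.choose (hR a ha) else 0
  have hpos : ∀ a, a ≠ 1 → pos a < m' + 1 ∧ (φ ^ pos a) a ∈ R ∧
      ∀ i, i < m' + 1 → (φ ^ i) a ∈ R → i = pos a := by
    intro a ha
    simp only [pos, dif_pos ha]
    have h1 := Classical.choose_spec (hR a ha)
    have hpw : ∀ (i : ℕ) (b : E), ((MulAut.toPerm E φ) ^ i) b = (φ ^ i) b := fun i b => by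
      rw [← map_pow]; rfl
    exact ⟨h1.1.1, hpw _ a ▸ h1.1.2, fun i hi hiR => h1.2 i ⟨hi, (hpw i a).symm ▸ hiR⟩⟩
  let k : E → ZMod (m' + 1) := fun a => -(pos a : ZMod (m' + 1))
  have hk : ∀ a, a ≠ 1 → k (φ a) = k a + 1 := by
    intro a ha
    have hφa : φ a ≠ 1 := fun e' => ha (φ.injective (by rw [e', map_one]))
    obtain ⟨h1, h2, -⟩ := hpos (φ a) hφa
    obtain ⟨-, -, h3⟩ := hpos a ha
    have h4 : (φ ^ ((pos (φ a) + 1) % (m' + 1))) a ∈ R := by
      rw [← pow_eq_pow_mod _ hφm, pow_succ, MulAut.mul_apply]; exact h2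
    have h5 := h3 _ (Nat.mod_lt _ (Nat.succ_pos _)) h4
    show -(pos (φ a) : ZMod (m' + 1)) = -(pos a : ZMod (m' + 1)) + 1
    rw [← h5, ZMod.natCast_mod]
    push_cast; ring
  -- the eigenspaces of `C` have almost equal dimensions
  let coef : Module.End K (Module.End K U) →ₗ[K] Module.End K (Module.End K U) := LinearMap.id
  let H0 : Submodule K (Module.End K U) := LinearMap.ker (be.coord 1)
  let Eig : ZMod (m' + 1) → Submodule K (Module.End K U) := fun t => Module.End.eigenspace C (w t)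
  have hshift : ∀ a b, finrank K ↥(Eig a ⊓ H0) ≤ finrank K ↥(Eig b ⊓ H0) := by
    intro a b
    let D : Module.End K (Module.End K U) :=
      be.constr K fun x => (if x = 1 then (0 : K) else w ((a - b) * k x)) • e x
    have hDe : ∀ x, D (e x) = (if x = 1 then (0 : K) else w ((a - b) * k x)) • e x := fun x => by
      rw [← hbe x, Basis.constr_basis, hbe]
    have hCD : ∀ X, C (D X) = w (b - a) • D (C X) := by
      refine LinearMap.congr_fun (be.ext (f₁ := C * D) (f₂ := w (b - a) • (D * C)) fun x => ?_)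
      rw [hbe, LinearMap.smul_apply, Module.End.mul_apply, Module.End.mul_apply, hDe, map_smul,
        hCe, map_smul, hDe, smul_smul, smul_smul, smul_smul]
      congr 1
      by_cases hx : x = 1
      · subst hx; simp
      · rw [if_neg hx, if_neg fun e' => hx (φ.injective (by rw [e', map_one])), hk x hx,
          mul_add, mul_one, hwadd]
        have : w (b - a) * w (a - b) = 1 := by rw [← hwadd, show b - a + (a - b) = 0 by abel, hw0]
        linear_combination (-(s x) * w ((a - b) * k x)) * this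
    have hcoord : ∀ X x, be.coord x (D X) = (if x = 1 then (0 : K) else w ((a - b) * k x)) * be.coord x X := by
      intro X x
      refine LinearMap.congr_fun (be.ext (f₁ := (be.coord x).comp D)
        (f₂ := (if x = 1 then (0 : K) else w ((a - b) * k x)) • be.coord x) fun y => ?_) X
      rw [LinearMap.comp_apply, LinearMap.smul_apply, hbe, hDe, map_smul, ← hbe, be.coord_apply,
        be.repr_self, smul_eq_mul, smul_eq_mul]
      by_cases hxy : y = x
      · subst hxy; rfl
      · rw [Finsupp.single_eq_of_ne (Ne.symm hxy), mul_zero, mul_zero]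
    let f : ↥(Eig a ⊓ H0) →ₗ[K] ↥(Eig b ⊓ H0) :=
      (D.comp (Eig a ⊓ H0).subtype).codRestrict _ fun X => by
        refine ⟨?_, ?_⟩
        · show D X.1 ∈ Module.End.eigenspace C (w b)
          rw [Module.End.mem_eigenspace_iff, hCD, Module.End.mem_eigenspace_iff.mp X.2.1, map_smul,
            smul_smul, ← hwadd, sub_add_cancel]
        · show be.coord 1 (D X.1) = 0
          rw [hcoord, if_pos rfl, zero_mul]
    refine LinearMap.finrank_le_finrank_of_injective (f := f) (LinearMap.ker_eq_bot.mp ?_)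
    rw [eq_bot_iff]
    intro X hX
    have h1 : D X.1 = 0 := congrArg Subtype.val (LinearMap.mem_ker.mp hX)
    have h2 : be.coord 1 X.1 = 0 := X.2.2
    rw [Submodule.mem_bot]
    refine Subtype.ext (be.forall_coord_eq_zero_iff.mp fun x => ?_)
    by_cases hx : x = 1
    · subst hx; exact h2
    · have h3 := hcoord X.1 x
      rw [h1, map_zero, if_neg hx] at h3
      exact (mul_eq_zero.mp h3.symm).resolve_left (hwne _)
  have hcoordC : ∀ X, be.coord 1 (C X) = be.coord 1 X := by
    refine LinearMap.congr_fun (be.ext (f₁ := (be.coord 1).comp C) (f₂ := be.coord 1) fun x => ?_)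
    rw [LinearMap.comp_apply, hbe, hCe, map_smul, ← hbe, ← hbe, be.coord_apply, be.coord_apply,
      be.repr_self, be.repr_self]
    by_cases hx : x = 1
    · subst hx; simp [hs1]
    · have hφx : φ x ≠ 1 := fun e' => hx (φ.injective (by rw [e', map_one]))
      rw [Finsupp.single_eq_of_ne (Ne.symm hφx), Finsupp.single_eq_of_ne (Ne.symm hx), smul_zero]
  have hsub : ∀ t, t ≠ 0 → Eig t ≤ H0 := by
    intro t ht X hX
    have h1 := hcoordC X
    rw [Module.End.mem_eigenspace_iff.mp hX, map_smul, smul_eq_mul] at h1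
    by_contra hne
    exact ht (hwinj (by rw [hw0]; exact (mul_left_eq_self₀.mp h1).resolve_right hne))
  have hdim : ∀ t, t ≠ 0 → finrank K (Eig t) + 1 = finrank K (Eig 0) := by
    intro t ht
    have e1 : finrank K ↥(Eig t ⊓ H0) = finrank K (Eig t) := by rw [inf_eq_left.mpr (hsub t ht)]
    have e2 : finrank K ↥(Eig t ⊓ H0) = finrank K ↥(Eig 0 ⊓ H0) :=
      le_antisymm (hshift t 0) (hshift 0 t)
    have hone : (1 : Module.End K U) ∈ Eig 0 := by
      rw [Module.End.mem_eigenspace_iff, hw0, one_smul, ← h.one, hCe, map_one, hs1, one_smul]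
    let g : Eig 0 →ₗ[K] K := (be.coord 1).comp (Eig 0).subtype
    have hgs : LinearMap.range g = ⊤ := by
      refine LinearMap.range_eq_top.mpr fun r => ⟨r • ⟨1, hone⟩, ?_⟩
      show be.coord 1 (r • (1 : Module.End K U)) = r
      rw [map_smul, ← h.one, ← hbe 1, be.coord_apply, be.repr_self, Finsupp.single_eq_same,
        smul_eq_mul, mul_one]
    have e3 := LinearMap.finrank_range_add_finrank_ker g
    rw [hgs, finrank_top, finrank_self] at e3
    have e4 : finrank K (LinearMap.ker g) = finrank K ↥(Eig 0 ⊓ H0) := by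
      refine LinearEquiv.finrank_eq
        { toFun := fun X => ⟨X.1.1, X.1.2, X.2⟩
          invFun := fun X => ⟨⟨X.1, X.2.1⟩, X.2.2⟩
          map_add' := fun _ _ => rfl
          map_smul' := fun _ _ => rfl
          left_inv := fun _ => rfl
          right_inv := fun _ => rfl }
    omega
  -- an eigenbasis of `β`
  let ρ : Multiplicative (ZMod (m' + 1)) →* Module.End K U :=
    { toFun := fun x => β ^ (Multiplicative.toAdd x).val
      map_one' := by simp
      map_mul' := fun x y => by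
        simp only [toAdd_mul, ZMod.val_add, ← pow_add]
        exact (pow_eq_pow_mod _ hβm).symm }
  have htop := span_weights_eq_top (K := K) (H := Multiplicative (ZMod (m' + 1)))
    (by rw [Nat.card_congr Multiplicative.toAdd, Nat.card_zmod]; exact hmK) ρ
  have hρ1 : ρ (Multiplicative.ofAdd 1) = β := by
    show β ^ (1 : ZMod (m' + 1)).val = β
    rw [ZMod.val_one_eq_one_mod]
    exact (pow_eq_pow_mod _ hβm).symm.trans (pow_one β)
  obtain ⟨S, hSs, hSspan, hSind⟩ := exists_linearIndependent K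
    {v : U | ∃ θ : Multiplicative (ZMod (m' + 1)) →* Kˣ, ∀ x, ρ x v = (θ x : K) • v}
  rw [htop] at hSspan
  let bu : Basis S K U := Basis.mk hSind (by rw [Subtype.range_coe, hSspan])
  haveI : Fintype S := FiniteDimensional.fintypeBasisIndex bu
  have hex : ∀ v : S, ∃ t : ZMod (m' + 1), β (bu v) = w t • bu v := by
    intro v
    obtain ⟨θ, hθ⟩ := hSs v.2
    rw [show bu v = (v : U) from Basis.mk_apply _ _ v]
    have hu : (θ (Multiplicative.ofAdd 1) : K) ^ (m' + 1) = 1 := by
      rw [← Units.val_pow_eq_pow_val, ← map_pow, ← ofAdd_nsmul, nsmul_one, ZMod.natCast_self,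
        ofAdd_zero, map_one, Units.val_one]
    obtain ⟨i, hi, hθi⟩ := hω.eq_pow_of_pow_eq_one hu
    exact ⟨(i : ZMod (m' + 1)), by
      rw [← hρ1, hθ, show w (i : ZMod (m' + 1)) = ω ^ i by
        simp only [w, ZMod.val_natCast, Nat.mod_eq_of_lt hi], hθi]⟩
  choose ε hε using hex
  have hεne : ∀ v, ε v ≠ 0 := fun v hv0 => bu.ne_zero v (hfix _ (by rw [hε, hv0, hw0, one_smul]))
  have hεpow : ∀ (n : ℕ) v, (β ^ n) (bu v) = w (n • ε v) • bu v := by
    intro n v
    induction n with
    | zero => simp [hw0]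
    | succ n ih => rw [pow_succ', Module.End.mul_apply, ih, map_smul, hε, smul_smul, succ_nsmul, hwadd]
  -- matrix units
  let bM : Basis (S × S) K (Module.End K U) := (Matrix.stdBasis K S S).map (Matrix.toLin bu bu)
  have hbM : ∀ x y v, bM (x, y) (bu v) = if y = v then bu x else 0 := by
    intro x y v
    simp only [bM, Basis.map_apply, Matrix.stdBasis_eq_single, Matrix.toLin_self, Matrix.single_apply,
      ite_smul, one_smul, zero_smul]
    by_cases hyv : y = v
    · simp [hyv]
    · simp [hyv]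
  have hCM : ∀ xy, C (bM xy) = w (ε xy.1 - ε xy.2) • bM xy := by
    rintro ⟨x, y⟩
    refine bu.ext fun v => ?_
    show (β * bM (x, y) * β ^ m') (bu v) = (w (ε x - ε y) • bM (x, y)) (bu v)
    rw [Module.End.mul_apply, Module.End.mul_apply, hεpow, map_smul, map_smul, LinearMap.smul_apply, hbM]
    by_cases hyv : y = v
    · subst hyv
      rw [if_pos rfl, hε, smul_smul, ← hwadd]
      congr 2
      rw [nsmul_eq_mul, show (m' : ZMod (m' + 1)) = -1 from eq_neg_of_add_eq_zero_left (by
        exact_mod_cast ZMod.natCast_self (m' + 1))]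
      ring
    · rw [if_neg hyv, map_zero, smul_zero, smul_zero]
  have hcount : ∀ t, finrank K (Eig t) = Nat.card {xy : S × S // ε xy.1 - ε xy.2 = t} := by
    intro t
    show finrank K (Module.End.eigenspace C (w t)) = _
    rw [finrank_diag_eigenspace bM C _ hCM (w t)]
    exact Nat.card_congr (Equiv.subtypeEquivRight fun xy => hwinj.eq_iff)
  have hSn : Nat.card E = Fintype.card S * Fintype.card S := by
    rw [← Fintype.card_prod, ← finrank_eq_card_basis bM, finrank_eq_card_basis be,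
      Nat.card_eq_fintype_card]
  have hn2 : 2 ≤ Fintype.card S := by
    by_contra hlt
    have hle : Fintype.card S * Fintype.card S ≤ 1 * 1 := Nat.mul_le_mul (by omega) (by omega)
    omega
  have hcS := card_eq_of_uniform_differences hn2 ε hεne fun t ht => by
    rw [← hcount, ← hcount]; exact hdim t ht
  refine ⟨by rw [hSn, hcS, sq], fun μ hμ hμ1 => ?_⟩
  have hεinj : Function.Injective ε := by
    intro x y hxy
    by_contra hne
    exact injective_of_uniform_differences ε hεne (fun t ht => by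
      rw [← hcount, ← hcount]; exact hdim t ht) hne hxy
  obtain ⟨i, hi, rfl⟩ := hω.eq_pow_of_pow_eq_one hμ
  have hi0 : (i : ZMod (m' + 1)) ≠ 0 := fun h0 => hμ1 (by
    have := congrArg w h0
    rw [hw0, show w (i : ZMod (m' + 1)) = ω ^ i by
      simp only [w, ZMod.val_natCast, Nat.mod_eq_of_lt hi]] at this
    exact this)
  obtain ⟨x, hx⟩ : ∃ x, ε x = i := by
    by_contra hnone
    push Not at hnone
    have h1 : (Finset.univ.image ε).card ≤
        ((Finset.univ.erase (0 : ZMod (m' + 1))).erase (i : ZMod (m' + 1))).card := by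
      refine Finset.card_le_card fun t ht => ?_
      obtain ⟨x, -, rfl⟩ := Finset.mem_image.mp ht
      exact Finset.mem_erase.mpr ⟨hnone x, Finset.mem_erase.mpr ⟨hεne x, Finset.mem_univ _⟩⟩
    rw [Finset.card_image_of_injective _ hεinj, Finset.card_univ,
      Finset.card_erase_of_mem (Finset.mem_erase.mpr ⟨hi0, Finset.mem_univ _⟩),
      Finset.card_erase_of_mem (Finset.mem_univ _), Finset.card_univ, ZMod.card, hcS] at h1
    omega
  refine ⟨bu x, bu.ne_zero x, ?_⟩
  rw [hε, hx]
  simp only [w, ZMod.val_natCast, Nat.mod_eq_of_lt hi]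

namespace Twisted

variable {e : E → Module.End K U} {c : E → E → K} (h : Twisted e c)
include h

/-- Restriction to an invariant subspace. -/
theorem restrict {S : Submodule K U} (hS : ∀ a, ∀ v ∈ S, e a v ∈ S) [Nontrivial S] :
    Twisted (fun a => (e a).restrict (hS a)) c :=
  { c_ne := h.c_ne
    mul := fun a b => LinearMap.ext fun v => Subtype.ext (LinearMap.congr_fun (h.mul a b) (v : U))
    one := LinearMap.ext fun v => Subtype.ext (LinearMap.congr_fun h.one (v : U))
    nondeg := fun a ha => by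
      obtain ⟨b, hb⟩ := h.nondeg a ha
      refine ⟨b, fun heq => ?_⟩
      obtain ⟨v, hv⟩ := exists_ne (0 : S)
      have h1 : (e a * e b) (v : U) = (e b * e a) (v : U) :=
        congrArg Subtype.val (LinearMap.congr_fun heq v)
      rw [h.comm a b, LinearMap.smul_apply] at h1
      have hne : (e b * e a) (v : U) ≠ 0 := fun h0 => hv (Subtype.ext (by
        have := congrArg (↑(h.u a)⁻¹ * ↑(h.u b)⁻¹ : Module.End K U) h0
        rwa [map_zero, ← Module.End.mul_apply, mul_assoc, ← mul_assoc (↑(h.u b)⁻¹ : Module.End K U),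
          h.inv_mul_e, one_mul, h.inv_mul_e, Module.End.one_apply] at this))
      refine hb ?_
      have hk : h.κ a b = 1 := smul_left_injective K hne
        (show h.κ a b • (e b * e a) (v : U) = (1 : K) • (e b * e a) (v : U) by rw [one_smul]; exact h1)
      rw [h.comm a b, hk, one_smul] }

variable [Fintype E] {φ : MulAut E} {β : Module.End K U} {s : E → K}
  (hβe : ∀ a, β * e a = s a • (e (φ a) * β)) (hs0 : ∀ a, s a ≠ 0)
include hβe hs0

theorem β_mul_inv (a : E) : β * ↑(h.u a)⁻¹ = (s a)⁻¹ • (↑(h.u (φ a))⁻¹ * β) :=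
  calc β * ↑(h.u a)⁻¹ = ↑(h.u (φ a))⁻¹ * (e (φ a) * β) * ↑(h.u a)⁻¹ := by
        rw [← mul_assoc, h.inv_mul_e, one_mul]
    _ = ↑(h.u (φ a))⁻¹ * ((s a)⁻¹ • (β * e a)) * ↑(h.u a)⁻¹ := by
        rw [hβe, smul_smul, inv_mul_cancel₀ (hs0 a), one_smul]
    _ = (s a)⁻¹ • (↑(h.u (φ a))⁻¹ * β) := by
        rw [mul_smul_comm, smul_mul_assoc, mul_assoc (↑(h.u (φ a))⁻¹ : Module.End K U),
          mul_assoc β, h.e_mul_inv, mul_one]

theorem commute_self_avg : Commute β (h.avg β) := by
  show β * h.avg β = h.avg β * β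
  unfold avg
  rw [Finset.mul_sum, Finset.sum_mul]
  refine Fintype.sum_equiv φ.toEquiv _ _ fun a => ?_
  show β * (e a * β * ↑(h.u a)⁻¹) = e (φ a) * β * ↑(h.u (φ a))⁻¹ * β
  calc β * (e a * β * ↑(h.u a)⁻¹) = (β * e a) * (β * ↑(h.u a)⁻¹) := by simp only [mul_assoc]
    _ = _ := by
      rw [hβe, h.β_mul_inv hβe hs0, smul_mul_smul_comm, mul_inv_cancel₀ (hs0 a), one_smul]
      simp only [mul_assoc]

/-- The operator is its average times a combination of the `e a`. -/
theorem eq_mul_avg (hE : (Nat.card E : K) ≠ 0) (hfree1 : ∀ a, φ a = a → a = 1) :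
    ∃ χ : E → K, β = (∑ d, χ d • e d) * h.avg β := by
  have hsur : Function.Surjective fun a => φ a * a⁻¹ := by
    refine Finite.surjective_of_injective fun a b hab => ?_
    have h1 : φ (a * b⁻¹) = a * b⁻¹ := by
      rw [map_mul, map_inv]
      have h2 : φ a * a⁻¹ = φ b * b⁻¹ := hab
      rw [mul_inv_eq_iff_eq_mul] at h2
      rw [h2]; simp [mul_comm, mul_left_comm, mul_assoc]
    exact mul_inv_eq_one.mp (hfree1 _ h1)
  have hcoef : ∀ d, ∃ χ : K, h.avg (↑(h.u d)⁻¹ * β) = χ • h.avg β := by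
    intro d
    obtain ⟨a, ha⟩ := hsur d
    have hd : d * a = φ a := by rw [← ha]; exact inv_mul_cancel_right (φ a) a
    have h1 : h.conj a β = ((s a)⁻¹ * c d a) • (↑(h.u d)⁻¹ * β) := by
      have h2 : (↑(h.u a)⁻¹ : Module.End K U) * ↑(h.u d)⁻¹ = (c d a)⁻¹ • ↑(h.u (φ a))⁻¹ := by
        rw [h.inv_inv_mul, hd]
      have h3 : (↑(h.u (φ a))⁻¹ : Module.End K U) = c d a • (↑(h.u a)⁻¹ * ↑(h.u d)⁻¹) := by
        rw [h2, smul_smul, mul_inv_cancel₀ (h.c_ne _ _), one_smul]
      rw [Twisted.conj, mul_assoc, h.β_mul_inv hβe hs0, h3, mul_smul_comm, smul_mul_assoc, mul_smul_comm,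
        smul_smul, mul_assoc (↑(h.u a)⁻¹ : Module.End K U), ← mul_assoc (e a), h.e_mul_inv, one_mul]
    refine ⟨((s a)⁻¹ * c d a)⁻¹, ?_⟩
    have h4 := congrArg h.avg h1
    rw [h.avg_conj, h.avg_smul] at h4
    rw [h4, smul_smul, inv_mul_cancel₀ (mul_ne_zero (inv_ne_zero (hs0 a)) (h.c_ne _ _)), one_smul]
  choose χ hχ using hcoef
  refine ⟨fun d => (Nat.card E : K)⁻¹ * χ d, ?_⟩
  have h1 := h.expansion β
  simp only [hχ, mul_smul_comm] at h1
  rw [Finset.sum_mul]
  have h2 : ∀ d, ((Nat.card E : K)⁻¹ * χ d) • e d * h.avg β =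
      (Nat.card E : K)⁻¹ • (χ d • (e d * h.avg β)) := fun d => by
    rw [smul_mul_assoc, smul_smul]
  simp only [h2]
  rw [← Finset.smul_sum, h1, smul_smul, inv_mul_cancel₀ hE, one_smul]

/-- An irreducible invariant space inside an eigenspace of the average. -/
theorem exists_irreducible (hE : (Nat.card E : K) ≠ 0) (hfree1 : ∀ a, φ a = a → a = 1) {l : K}
    (hl : Module.End.eigenspace (h.avg β) l ≠ ⊥) :
    ∃ S : Submodule K U, S ≠ ⊥ ∧ S ≤ Module.End.eigenspace (h.avg β) l ∧
      (∀ a, ∀ v ∈ S, e a v ∈ S) ∧ (∀ v ∈ S, β v ∈ S) ∧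
      ∀ T : Submodule K U, T ≤ S → T ≠ ⊥ → (∀ a, ∀ v ∈ T, e a v ∈ T) → T = S := by
  let W1 := Module.End.eigenspace (h.avg β) l
  have hW1 : ∀ a, ∀ v ∈ W1, e a v ∈ W1 := fun a v hv => by
    rw [Module.End.mem_eigenspace_iff] at hv ⊢
    rw [← Module.End.mul_apply, ← (h.commute_avg a β).eq, Module.End.mul_apply, hv, map_smul]
  obtain ⟨S, hS⟩ := exists_minimal_of_wellFoundedLT
    (fun S : Submodule K U => S ≠ ⊥ ∧ S ≤ W1 ∧ ∀ a, ∀ v ∈ S, e a v ∈ S) ⟨W1, hl, le_rfl, hW1⟩
  obtain ⟨hS0, hSW, hSinv⟩ := hS.prop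
  refine ⟨S, hS0, hSW, hSinv, fun v hv => ?_, fun T hTS hT0 hT => ?_⟩
  · obtain ⟨χ, hχ⟩ := h.eq_mul_avg hβe hs0 hE hfree1
    rw [hχ, Module.End.mul_apply, Module.End.mem_eigenspace_iff.mp (hSW hv), map_smul,
      LinearMap.sum_apply]
    refine S.smul_mem _ (sum_mem fun d _ => ?_)
    rw [LinearMap.smul_apply]
    exact S.smul_mem _ (hSinv d v hv)
  · have := hS.eq_of_le ⟨hT0, hTS.trans hSW, hT⟩ hTS
    first | exact this | exact this.symm

end Twisted

/-- The count in general, with the eigenvalues on each irreducible part. -/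
theorem exists_irreducible_count {e : E → Module.End K U} {c : E → E → K} (h : Twisted e c) [Fintype E]
    (hE : (Nat.card E : K) ≠ 0) (hE2 : 1 < Nat.card E) {φ : MulAut E} {m : ℕ}
    (hm1 : 1 < m) (hmK : (m : K) ≠ 0) (hφm : φ ^ m = 1)
    (hfree : ∀ i, 0 < i → i < m → ∀ a, (φ ^ i) a = a → a = 1)
    (β : Module.End K U) (s : E → K) (hβe : ∀ a, β * e a = s a • (e (φ a) * β))
    (hβm : β ^ m = 1) (hfix : ∀ v, β v = v → v = 0) {l : K}
    (hl : Module.End.eigenspace (h.avg β) l ≠ ⊥) :
    Nat.card E = (m - 1) ^ 2 ∧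
      ∀ μ : K, μ ^ m = 1 → μ ≠ 1 →
        ∃ v, v ≠ 0 ∧ v ∈ Module.End.eigenspace (h.avg β) l ∧ β v = μ • v := by
  obtain ⟨m', rfl⟩ : ∃ m', m = m' + 1 := ⟨m - 1, by omega⟩
  have hs0 : ∀ a, s a ≠ 0 := fun a h0 => h.ne_zero a (by
    have h1 := hβe a
    rw [h0, zero_smul] at h1
    calc e a = β ^ (m' + 1) * e a := by rw [hβm, one_mul]
      _ = β ^ m' * (β * e a) := by rw [pow_succ, mul_assoc]
      _ = 0 := by rw [h1, mul_zero])
  have hfree1 : ∀ a, φ a = a → a = 1 := fun a ha => hfree 1 Nat.one_pos hm1 a (by rwa [pow_one])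
  obtain ⟨S, hS0, hSW, hSinv, hβS, hirr⟩ := h.exists_irreducible hβe hs0 hE hfree1 hl
  haveI : Nontrivial S := Submodule.nontrivial_iff_ne_bot.mpr hS0
  have hirr' : ∀ T : Submodule K S, (∀ a, ∀ v ∈ T, (e a).restrict (hSinv a) v ∈ T) → T = ⊥ ∨ T = ⊤ := by
    intro T hTinv
    by_contra hne
    push Not at hne
    have hmap : T.map S.subtype ≠ ⊥ := fun h0 => hne.1 (Submodule.map_injective_of_injective
      S.injective_subtype (by rw [h0, Submodule.map_bot]))
    have hinv : ∀ a, ∀ v ∈ T.map S.subtype, e a v ∈ T.map S.subtype := by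
      rintro a _ ⟨v, hv, rfl⟩
      exact ⟨_, hTinv a v hv, rfl⟩
    refine hne.2 (Submodule.map_injective_of_injective S.injective_subtype ?_)
    rw [Submodule.map_top, Submodule.range_subtype]
    exact hirr _ (Submodule.map_subtype_le S T) hmap hinv
  obtain ⟨hcard, heig⟩ := card_of_irreducible (h.restrict hSinv) hirr' hE hE2 hmK hφm hfree
    (β.restrict hβS) s
    (fun a => LinearMap.ext fun v => Subtype.ext (LinearMap.congr_fun (hβe a) (v : U)))
    (LinearMap.ext fun v => Subtype.ext (by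
      rw [Module.End.pow_restrict]
      show (β ^ (m' + 1)) (v : U) = _
      rw [hβm]; rfl))
    (fun v hv => Subtype.ext (hfix _ (congrArg Subtype.val hv)))
  refine ⟨hcard, fun μ hμ hμ1 => ?_⟩
  obtain ⟨v, hv0, hv⟩ := heig μ hμ hμ1
  exact ⟨v, fun e0 => hv0 (Subtype.ext e0), hSW v.2, congrArg Subtype.val hv⟩

/-- The count in general. -/
theorem card_eq_sub_one_sq {e : E → Module.End K U} {c : E → E → K} (h : Twisted e c)
    (hE : (Nat.card E : K) ≠ 0) (hE2 : 1 < Nat.card E) {φ : MulAut E} {m : ℕ} (hm : Odd m)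
    (hm1 : 1 < m) (hmK : (m : K) ≠ 0) (hφm : φ ^ m = 1)
    (hfree : ∀ i, 0 < i → i < m → ∀ a, (φ ^ i) a = a → a = 1)
    (β : Module.End K U) (s : E → K) (hβe : ∀ a, β * e a = s a • (e (φ a) * β))
    (hβm : β ^ m = 1) (hfix : ∀ v, β v = v → v = 0) :
    Nat.card E = (m - 1) ^ 2 := by
  haveI := Fintype.ofFinite E
  obtain ⟨l, hl⟩ := Module.End.exists_eigenvalue (h.avg β)
  exact (exists_irreducible_count h hE hE2 hm1 hmK hφm hfree β s hβe hβm hfix hl).1

end CfsgLib.PGroups.ShultGross
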