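import Mathlib
import Cfsg.Agent.Lib.PGroups.Alperin.BoundedOrder
import Cfsg.Agent.Lib.Core.HHCritical.Main

/-!
# A minimal invariant `q`-group moved by an operator of order `p`, and arithmetic

* `Minimal'`: the top operator `τ = φ ^ p ^ (n - 1)` is nontrivial and fixes each proper
  `φ`-invariant subgroup; then `Φ(Q)` is central, fixed by `τ`, and `τ` is fixed point free modulo it
* `dvd_card_sub_one_of_free`, `exponent_bound`
-/

set_option autoImplicit false
set_option linter.all false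

namespace CfsgLib.PGroups.ShultGross

open CfsgLib.PGroups.Alperin
open scoped commutatorElement

variable {Q : Type*} [Group Q] [Finite Q]

theorem pow_mem_iff (φ : MulAut Q) (R : Subgroup Q) (hR : ∀ x, x ∈ R ↔ φ x ∈ R) :
    ∀ (k : ℕ) (x : Q), x ∈ R ↔ (φ ^ k) x ∈ R := by
  intro k
  induction k with
  | zero => intro x; rfl
  | succ k ih => intro x; rw [ih x, hR, pow_succ', MulAut.mul_apply]

/-- The minimality hypothesis. -/
structure Minimal' (p q n : ℕ) (φ : MulAut Q) : Prop where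
  isPGroup : IsPGroup q Q
  pow : φ ^ p ^ n = 1
  one_le : 1 ≤ n
  ne : φ ^ p ^ (n - 1) ≠ 1
  min : ∀ R : Subgroup Q, (∀ x, x ∈ R ↔ φ x ∈ R) → R ≠ ⊤ → ∀ x ∈ R, (φ ^ p ^ (n - 1)) x = x

namespace Minimal'

variable {p q n : ℕ} [hp : Fact p.Prime] [hq : Fact q.Prime] {φ : MulAut Q}

theorem top_pow (h : Minimal' p q n φ) : (φ ^ p ^ (n - 1)) ^ p = 1 := by
  rw [← pow_mul, ← pow_succ, Nat.sub_add_cancel h.one_le, h.pow]

theorem eq_one_of_fixed_diff (h : Minimal' p q n φ) (hpq : p ≠ q) {x k : Q}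
    (hx : (φ ^ p ^ (n - 1)) x = x * k) (hk : (φ ^ p ^ (n - 1)) k = k) : k = 1 := by
  set τ := φ ^ p ^ (n - 1) with hτ
  have hrep : ∀ i : ℕ, (τ ^ i) x = x * k ^ i := by
    intro i
    induction i with
    | zero => simp
    | succ i ih => rw [pow_succ', MulAut.mul_apply, ih, map_mul, map_pow, hk, hx, mul_assoc, ← pow_succ']
  have hkp : k ^ p = 1 := by
    have h1 := hrep p
    rw [hτ, h.top_pow, MulAut.one_apply] at h1
    exact mul_left_cancel (h1.symm.trans (mul_one x).symm)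
  obtain ⟨j, hj⟩ := IsPGroup.iff_orderOf.mp h.isPGroup k
  have hd := orderOf_dvd_of_pow_eq_one hkp
  rw [hj] at hd
  rcases (Nat.dvd_prime hp.out).mp hd with h1 | h1
  · exact orderOf_eq_one_iff.mp (hj.trans h1)
  · exact absurd ((Nat.prime_dvd_prime_iff_eq hp.out hq.out).mp
      (hp.out.dvd_of_dvd_pow (dvd_of_eq h1.symm))) hpq

theorem frattini_ne_top (h : Minimal' p q n φ) : frattini Q ≠ ⊤ := by
  intro htop
  have hbot : (⊥ : Subgroup Q) = ⊤ := frattini_nongenerating (by rw [htop, sup_top_eq])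
  refine h.ne (MulEquiv.ext fun x => ?_)
  have : x ∈ (⊥ : Subgroup Q) := hbot ▸ Subgroup.mem_top x
  rw [Subgroup.mem_bot.mp this, map_one, map_one]

theorem fixed_frattini (h : Minimal' p q n φ) {x : Q} (hx : x ∈ frattini Q) :
    (φ ^ p ^ (n - 1)) x = x :=
  h.min _ (mem_iff_of_char φ _) h.frattini_ne_top x hx

theorem closure_diff_eq_top (h : Minimal' p q n φ) (hpq : p ≠ q) :
    Subgroup.closure (Set.range fun x : Q => x⁻¹ * (φ ^ p ^ (n - 1)) x) = ⊤ := by
  set τ := φ ^ p ^ (n - 1) with hτ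
  set K := Subgroup.closure (Set.range fun x : Q => x⁻¹ * τ x) with hK
  by_contra hne
  have hcomm : ∀ x, φ (τ x) = τ (φ x) := fun x => by
    rw [hτ, ← MulAut.mul_apply, ← MulAut.mul_apply, ← pow_succ', pow_succ]
  have hle : K ≤ K.comap φ.toMonoidHom := by
    rw [hK, Subgroup.closure_le]
    rintro _ ⟨x, rfl⟩
    exact Subgroup.subset_closure ⟨φ x, by
      show (φ x)⁻¹ * τ (φ x) = φ (x⁻¹ * τ x)
      rw [map_mul, map_inv, hcomm]⟩
  have hmap : K.map φ.toMonoidHom = K := Subgroup.eq_of_le_of_card_ge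
    (Subgroup.map_le_iff_le_comap.mpr hle)
    (le_of_eq (Nat.card_congr (K.equivMapOfInjective _ φ.injective).toEquiv))
  have hiff : ∀ x, x ∈ K ↔ φ x ∈ K := fun x => by
    refine ⟨fun hx => hle hx, fun hx => ?_⟩
    rw [← hmap] at hx
    obtain ⟨y, hy, hyx⟩ := hx
    exact φ.injective hyx ▸ hy
  refine h.ne (MulEquiv.ext fun x => ?_)
  have hk : τ (x⁻¹ * τ x) = x⁻¹ * τ x := h.min K hiff hne _ (Subgroup.subset_closure ⟨x, rfl⟩)
  have := h.eq_one_of_fixed_diff hpq (x := x) (k := x⁻¹ * τ x) (mul_inv_cancel_left x (τ x)).symm hk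
  rw [inv_mul_eq_one] at this
  rw [MulAut.one_apply]; exact this.symm

theorem frattini_le_center (h : Minimal' p q n φ) (hpq : p ≠ q) :
    frattini Q ≤ Subgroup.center Q := by
  intro f hf
  have hle : Subgroup.closure (Set.range fun x : Q => x⁻¹ * (φ ^ p ^ (n - 1)) x) ≤
      Subgroup.centralizer ({f} : Set Q) := by
    rw [Subgroup.closure_le]
    rintro _ ⟨x, rfl⟩
    rw [SetLike.mem_coe, Subgroup.mem_centralizer_singleton_iff]
    set τ := φ ^ p ^ (n - 1) with hτ
    have h1 : τ (x * f * x⁻¹) = x * f * x⁻¹ :=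
      h.fixed_frattini ((inferInstance : (frattini Q).Normal).conj_mem f hf x)
    rw [map_mul, map_mul, map_inv, h.fixed_frattini hf] at h1
    calc x⁻¹ * τ x * f = x⁻¹ * (τ x * f * (τ x)⁻¹) * τ x := by group
      _ = f * (x⁻¹ * τ x) := by rw [h1]; group
  rw [h.closure_diff_eq_top hpq] at hle
  exact Subgroup.mem_center_iff.mpr fun g =>
    Subgroup.mem_centralizer_singleton_iff.mp (hle (Subgroup.mem_top g))

theorem mem_frattini_of_diff (h : Minimal' p q n φ) (hpq : p ≠ q) {x : Q}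
    (hx : x⁻¹ * (φ ^ p ^ (n - 1)) x ∈ frattini Q) : x ∈ frattini Q := by
  set τ := φ ^ p ^ (n - 1) with hτ
  haveI := h.isPGroup.isNilpotent
  letI : CommGroup (Q ⧸ frattini Q) :=
    { (inferInstance : Group (Q ⧸ frattini Q)) with
      mul_comm := fun a b => by
        induction a using QuotientGroup.induction_on with
        | H a =>
        induction b using QuotientGroup.induction_on with
        | H b =>
        show ((a * b : Q) : Q ⧸ frattini Q) = ((b * a : Q) : Q ⧸ frattini Q)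
        rw [QuotientGroup.eq]
        have := commutator_le_frattini' h.isPGroup
          (Subgroup.commutator_mem_commutator (Subgroup.mem_top b⁻¹) (Subgroup.mem_top a⁻¹))
        simpa [commutatorElement_def, mul_assoc] using this }
  let t := onQuot τ (frattini Q) (mem_iff_of_char τ _)
  let g : Q ⧸ frattini Q →* Q ⧸ frattini Q := (MonoidHom.id _)⁻¹ * t.toMonoidHom
  have hg : ∀ y : Q, g (y : Q ⧸ frattini Q) = ((y⁻¹ * τ y : Q) : Q ⧸ frattini Q) := fun y => rfl
  have hsurj : Function.Surjective g := by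
    intro a
    obtain ⟨y, rfl⟩ := QuotientGroup.mk_surjective a
    have : (y : Q ⧸ frattini Q) ∈ g.range := by
      have h1 : Subgroup.closure (Set.range fun x : Q => x⁻¹ * τ x) ≤
          g.range.comap (QuotientGroup.mk' (frattini Q)) := by
        rw [Subgroup.closure_le]
        rintro _ ⟨z, rfl⟩
        exact ⟨z, hg z⟩
      rw [h.closure_diff_eq_top hpq] at h1
      exact h1 (Subgroup.mem_top y)
    exact this
  have hinj := Finite.injective_iff_surjective.mpr hsurj
  refine (QuotientGroup.eq_one_iff x).mp (hinj ?_)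
  rw [hg, map_one]
  exact (QuotientGroup.eq_one_iff _).mpr hx

theorem eq_frattini (h : Minimal' p q n φ) (hpq : p ≠ q) {R : Subgroup Q}
    (hR : ∀ x, x ∈ R ↔ φ x ∈ R) (hle : frattini Q ≤ R) (hne : R ≠ ⊤) : R = frattini Q :=
  le_antisymm (fun x hx => h.mem_frattini_of_diff hpq (by
    rw [h.min R hR hne x hx, inv_mul_cancel]; exact one_mem _)) hle

theorem center_eq_frattini (h : Minimal' p q n φ) (hpq : p ≠ q)
    (hna : ¬ ∀ a b : Q, a * b = b * a) : Subgroup.center Q = frattini Q := by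
  refine h.eq_frattini hpq (mem_iff_of_char φ _) (h.frattini_le_center hpq) fun htop => hna fun a b => ?_
  exact Subgroup.mem_center_iff.mp (htop ▸ Subgroup.mem_top b) a

end Minimal'

/-- A free action of a cyclic group on the non-identity elements. -/
theorem dvd_card_sub_one_of_free {E : Type*} [Group E] [Finite E] (φ : MulAut E) (m : ℕ) (hm : 0 < m)
    (hφ : φ ^ m = 1) (hfree : ∀ i, 0 < i → i < m → ∀ a, (φ ^ i) a = a → a = 1) :
    m ∣ Nat.card E - 1 := by
  classical
  haveI := Fintype.ofFinite E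
  have hpw : ∀ (i : ℕ) (b : E), ((MulAut.toPerm E φ) ^ i) b = (φ ^ i) b := fun i b => by
    rw [← map_pow]; rfl
  obtain ⟨R, hR⟩ := Core.HHCritical.exists_orbit_reps (MulAut.toPerm E φ) m hm
    (by rw [← map_pow, hφ, map_one]) (fun a => a ≠ 1)
    (fun a ha i h1 h2 hia => ha (hfree i h1 h2 a (by rwa [hpw] at hia)))
  refine ⟨(R.filter (· ≠ 1)).card, ?_⟩
  rw [← Finset.card_range m, ← Finset.card_product, Nat.card_eq_fintype_card,
    ← Finset.card_univ, ← Finset.card_erase_of_mem (Finset.mem_univ (1 : E))]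
  symm
  refine Finset.card_bij (fun x _ => (φ ^ (m - x.1)) x.2) ?_ ?_ ?_
  · intro x hx
    simp only [Finset.mem_product, Finset.mem_filter] at hx
    refine Finset.mem_erase.mpr ⟨fun h1 => hx.2.2 ?_, Finset.mem_univ _⟩
    rw [← map_one (φ ^ (m - x.1))] at h1
    exact (φ ^ (m - x.1)).injective h1
  · intro x hx y hy hxy
    simp only [Finset.mem_product, Finset.mem_filter, Finset.mem_range] at hx hy
    have hne : (φ ^ (m - x.1)) x.2 ≠ 1 := fun h1 => hx.2.2 (by
      rw [← map_one (φ ^ (m - x.1))] at h1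
      exact (φ ^ (m - x.1)).injective h1)
    obtain ⟨i, -, huniq⟩ := hR _ hne
    have key : ∀ (z : ℕ × E), z.1 < m → (φ ^ z.1) ((φ ^ (m - z.1)) z.2) = z.2 := fun z hz => by
      rw [← MulAut.mul_apply, ← pow_add, Nat.add_sub_cancel' hz.le, hφ, MulAut.one_apply]
    have e1 : x.1 = i := huniq _ ⟨hx.1, by rw [hpw, key x hx.1]; exact hx.2.1⟩
    have e2 : y.1 = i := huniq _ ⟨hy.1, by rw [hxy, hpw, key y hy.1]; exact hy.2.1⟩
    refine Prod.ext (e1.trans e2.symm) ?_
    rw [e1, ← e2] at hxy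
    exact (φ ^ (m - y.1)).injective hxy
  · intro b hb
    obtain ⟨i, ⟨hi, hiR⟩, -⟩ := hR b (Finset.ne_of_mem_erase hb)
    rw [hpw] at hiR
    refine ⟨(i, (φ ^ i) b), ?_, ?_⟩
    · simp only [Finset.mem_product, Finset.mem_filter, Finset.mem_range]
      refine ⟨hi, hiR, fun h1 => Finset.ne_of_mem_erase hb ?_⟩
      rw [← map_one (φ ^ i)] at h1
      exact (φ ^ i).injective h1
    · show (φ ^ (m - i)) ((φ ^ i) b) = b
      rw [← MulAut.mul_apply, ← pow_add, Nat.sub_add_cancel hi.le, hφ, MulAut.one_apply]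

/-- A lower bound for the exponent from `p ^ n ∣ 2 ^ e - 1`. -/
theorem exponent_bound {p k n b e : ℕ} [hp : Fact p.Prime] (hodd : Odd p) (hb : 1 ≤ b)
    (hm : p ^ k = 2 ^ b + 1) (hkn : k ≤ n) (he : 0 < e) (hdiv : p ^ n ∣ 2 ^ e - 1) :
    2 * b * p ^ (n - k) ≤ e := by
  set m := 2 ^ b + 1 with hmdef
  have hk : k ≠ 0 := by
    rintro rfl
    have := Nat.two_pow_pos b
    simp at hm
    omega
  have hmd : m ∣ 2 ^ e - 1 := hm ▸ (pow_dvd_pow p hkn).trans hdiv
  have h2m : 2 ^ (2 * b) - 1 = m * (2 ^ b - 1) := by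
    rw [hmdef, mul_comm 2 b, pow_mul]
    have := Nat.sq_sub_sq (2 ^ b) 1
    simpa using this
  -- `2 b ∣ e`
  obtain ⟨t, ht⟩ : 2 * b ∣ e := by
    set r := e % (2 * b) with hr
    have hrlt : r < 2 * b := Nat.mod_lt _ (by omega)
    have hmr : m ∣ 2 ^ r - 1 := by
      have h1 : m ∣ 2 ^ r * ((2 ^ (2 * b)) ^ (e / (2 * b)) - 1) := by
        refine Dvd.dvd.mul_left ?_ _
        refine (Dvd.intro _ h2m.symm).trans ?_
        simpa using Nat.sub_dvd_pow_sub_pow (2 ^ (2 * b)) 1 (e / (2 * b))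
      have h2 : 2 ^ r * ((2 ^ (2 * b)) ^ (e / (2 * b)) - 1) = 2 ^ e - 2 ^ r := by
        rw [Nat.mul_sub, mul_one, ← pow_mul, ← pow_add, hr, Nat.mod_add_div]
      rw [h2] at h1
      have hle : 2 ^ r ≤ 2 ^ e := Nat.pow_le_pow_right (by omega) (Nat.mod_le _ _)
      have := Nat.dvd_sub hmd h1
      rwa [show 2 ^ e - 1 - (2 ^ e - 2 ^ r) = 2 ^ r - 1 by
        have := Nat.two_pow_pos r; omega] at this
    rcases Nat.lt_or_ge b r with hbr | hbr
    · exfalso
      obtain ⟨u, hu⟩ : ∃ u, r = b + u := ⟨r - b, by omega⟩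
      have h1 : 2 ^ r - 1 + (2 ^ u + 1) = 2 ^ u * m := by
        have := Nat.two_pow_pos r
        rw [hu, pow_add] at this ⊢
        rw [hmdef, Nat.mul_add, mul_one, mul_comm (2 ^ u)]
        omega
      have h2 : m ∣ 2 ^ u + 1 := (Nat.dvd_add_right hmr).mp (h1 ▸ dvd_mul_left m _)
      have h3 := Nat.le_of_dvd (Nat.succ_pos _) h2
      have h4 : 2 ^ u < 2 ^ b := Nat.pow_lt_pow_right (by omega) (by omega)
      omega
    · have h3 : 2 ^ r - 1 = 0 := by
        by_contra h0
        have h4 := Nat.le_of_dvd (Nat.pos_of_ne_zero h0) hmr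
        have h5 : 2 ^ r ≤ 2 ^ b := Nat.pow_le_pow_right (by omega) hbr
        omega
      have h6 : r = 0 := by
        by_contra h0
        have : 2 ^ 1 ≤ 2 ^ r := Nat.pow_le_pow_right (by omega) (Nat.pos_of_ne_zero h0)
        omega
      exact Nat.dvd_of_mod_eq_zero h6
  have ht0 : t ≠ 0 := by rintro rfl; simp at ht; omega
  rw [ht]
  refine Nat.mul_le_mul_left _ (Nat.le_of_dvd (Nat.pos_of_ne_zero ht0) ?_)
  set X := 2 ^ (2 * b) with hX
  have hp3 : 3 ≤ p := by
    obtain ⟨i, hi⟩ := hodd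
    have := hp.out.two_le
    omega
  have hXgt : 1 < X := Nat.one_lt_two_pow (by omega)
  have hb1 : 1 ≤ 2 ^ b - 1 := by
    have : 2 ^ 1 ≤ 2 ^ b := Nat.pow_le_pow_right (by omega) hb
    omega
  have hndvd : ¬ p ∣ 2 ^ b - 1 := by
    intro hd
    have h1 : p ∣ 2 ^ b + 1 := by rw [← hmdef, ← hm]; exact dvd_pow_self p hk
    have h2 := Nat.dvd_sub h1 hd
    rw [show 2 ^ b + 1 - (2 ^ b - 1) = 2 by omega] at h2
    have := Nat.le_of_dvd (by omega) h2
    omega
  have hpX : p ∣ X - 1 := h2m ▸ Dvd.dvd.mul_right (hm ▸ dvd_pow_self p hk) _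
  have hXp : ¬ p ∣ X := fun hd => by
    have := Nat.le_of_dvd (by omega) (hp.out.dvd_of_dvd_pow hd)
    omega
  have hval : padicValNat p (X - 1) = k := by
    have hm0 : m ≠ 0 := by omega
    rw [h2m, padicValNat.mul hm0 (by omega), ← hm, padicValNat.prime_pow,
      padicValNat.eq_zero_of_not_dvd hndvd, add_zero]
  have hlte := padicValNat.pow_sub_pow hodd hXgt hpX hXp ht0
  rw [one_pow, hval] at hlte
  have hn : n ≤ padicValNat p (X ^ t - 1) := by
    refine (padicValNat_dvd_iff_le ?_).mp ?_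
    · have : 1 < X ^ t := Nat.one_lt_pow ht0 hXgt
      omega
    · rwa [hX, ← pow_mul, ← ht]
  rw [padicValNat_dvd_iff_le ht0]
  omega

end CfsgLib.PGroups.ShultGross
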