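import Mathlib
import Cfsg.Agent.Lib.PGroups.ShultGross.Weights
import Cfsg.Agent.Lib.PGroups.ShultGross.Counting
import Cfsg.Agent.Lib.PGroups.ShultGross.Critical

/-!
# The linear case of the theorem of Shult and Gross

`exists_fixed_vector_linear`: an operator of order `p ^ n` (`p` odd) that normalises a minimal
`q`-group moved by its top power, and is fixed point free on the group, fixes a vector.
-/

set_option autoImplicit false
set_option linter.all false
set_option maxHeartbeats 800000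

namespace CfsgLib.PGroups.ShultGross

open CfsgLib.PGroups.Alperin
open scoped commutatorElement

variable {K : Type*} [Field K] [IsAlgClosed K]
variable {V : Type*} [AddCommGroup V] [Module K V]

/-- A finite group acting by commuting operators acts diagonally. -/
theorem span_weights_of_commute {H : Type*} [Group H] [Finite H] (hH : (Nat.card H : K) ≠ 0)
    (ρ : H →* Module.End K V) (hcomm : ∀ a b, ρ a * ρ b = ρ b * ρ a) :
    Submodule.span K {v : V | ∃ θ : H →* Kˣ, ∀ h, ρ h v = (θ h : K) • v} = ⊤ := by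
  have hle : commutator H ≤ ρ.toHomUnits.ker := by
    rw [commutator_def, Subgroup.commutator_le]
    intro a _ b _
    rw [MonoidHom.mem_ker, map_commutatorElement, commutatorElement_eq_one_iff_mul_comm]
    exact Units.ext (hcomm a b)
  let ρ' : Abelianization H →* Module.End K V :=
    (Units.coeHom _).comp (QuotientGroup.lift (commutator H) ρ.toHomUnits hle)
  have hH' : (Nat.card (Abelianization H) : K) ≠ 0 := fun h0 => hH (by
    obtain ⟨c, hc⟩ := (commutator H).card_quotient_dvd_card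
    rw [hc, Nat.cast_mul, show (Nat.card (H ⧸ commutator H) : K) = 0 from h0, zero_mul])
  refine top_unique ((span_weights_eq_top hH' ρ').ge.trans (Submodule.span_mono ?_))
  rintro v ⟨θ, hθ⟩
  exact ⟨θ.comp Abelianization.of, fun h => hθ (Abelianization.of h)⟩

omit [IsAlgClosed K] in
/-- The smallest power of the shift that fixes a weight. -/
theorem exists_period {α : Type*} (f : α → α) (x : α) {p n : ℕ} (hp : p.Prime)
    (hf : (f^[p ^ n]) x = x) :
    ∃ j, j ≤ n ∧ (f^[p ^ j]) x = x ∧ ∀ i, 0 < i → i < p ^ j → (f^[i]) x ≠ x := by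
  obtain ⟨j, hj, hjeq⟩ := (Nat.dvd_prime_pow hp).mp
    (Function.IsPeriodicPt.minimalPeriod_dvd (hf : Function.IsPeriodicPt f (p ^ n) x))
  refine ⟨j, hj, hjeq ▸ Function.iterate_minimalPeriod, fun i hi hlt hix => ?_⟩
  have := Nat.le_of_dvd hi (Function.IsPeriodicPt.minimalPeriod_dvd (hix : Function.IsPeriodicPt f i x))
  omega

theorem coe_pow_iterate {E : Type*} [Group E] (φ : MulAut E) (k : ℕ) : ⇑(φ ^ k) = (⇑φ)^[k] := by
  induction k with
  | zero => rfl
  | succ k ih =>
    funext x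
    rw [pow_succ', MulAut.mul_apply, Function.iterate_succ_apply', ih]

/-- The vectors of a given weight. -/
def wspace {X : Type*} (f : X → Module.End K V) (χ : X → K) : Submodule K V where
  carrier := {v | ∀ x, f x v = χ x • v}
  add_mem' := fun {a b} ha hb x => by rw [map_add, ha x, hb x, smul_add]
  zero_mem' := fun x => by simp
  smul_mem' := fun c v hv x => by rw [map_smul, hv x, smul_comm]

/-- The fixed vector. -/
theorem exists_fixed_vector_linear [FiniteDimensional K V] [Nontrivial V] {Q : Type*} [Group Q]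
    [Finite Q] {p q n : ℕ} [hp : Fact p.Prime] [hq : Fact q.Prime] (hodd : Odd p) (hpq : p ≠ q)
    (hpK : (p : K) ≠ 0) (hqK : (q : K) ≠ 0) {φ : MulAut Q} (h : Minimal' p q n φ)
    (hfpf : ∀ x, φ x = x → x = 1) (ρ : Q →* Module.End K V) (hρ : Function.Injective ρ)
    (S : Module.End K V) (hS : ∀ x, S * ρ x = ρ (φ x) * S) (hSn : S ^ p ^ n = 1) :
    ∃ v, v ≠ 0 ∧ S v = v := by
  classical
  by_contra hno
  push Not at hno
  set τ := φ ^ p ^ (n - 1) with hτ
  have hQK : ∀ H : Type _, [Group H] → [Finite H] → IsPGroup q H → (Nat.card H : K) ≠ 0 := by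
    intro H _ _ hH
    obtain ⟨a, ha⟩ := IsPGroup.iff_card.mp hH
    rw [ha, Nat.cast_pow]
    exact pow_ne_zero _ hqK
  have hSpow : ∀ (i : ℕ) x, S ^ i * ρ x = ρ ((φ ^ i) x) * S ^ i := by
    intro i
    induction i with
    | zero => intro x; simp
    | succ i ih =>
      intro x
      rw [pow_succ', mul_assoc, ih, ← mul_assoc, hS, mul_assoc, pow_succ' φ, MulAut.mul_apply]
  have hpsum : p ^ (n - 1) * p = p ^ n := by rw [← pow_succ, Nat.sub_add_cancel h.one_le]
  by_cases hna : ∀ a b : Q, a * b = b * a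
  · -- `Q` abelian
    obtain ⟨θ, v, hv0, hv, hθτ⟩ : ∃ (θ : Q →* Kˣ) (v : V), v ≠ 0 ∧
        (∀ x, ρ x v = (θ x : K) • v) ∧ θ.comp τ.toMonoidHom ≠ θ := by
      by_contra hall
      push Not at hall
      refine h.ne (MulEquiv.ext fun x => hρ (LinearMap.ext_on
        (span_weights_of_commute (hQK Q h.isPGroup) ρ fun a b => by rw [← map_mul, hna, map_mul]) ?_))
      rintro v ⟨θ, hθ⟩
      by_cases hv : v = 0
      · subst hv; simp
      rw [hθ, hθ, MulAut.one_apply]
      congr 2
      exact DFunLike.congr_fun (hall θ v hv hθ) x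
    let f : (Q →* Kˣ) → (Q →* Kˣ) := fun ξ => ξ.comp (φ⁻¹ : MulAut Q).toMonoidHom
    have hit : ∀ (i : ℕ) (ξ : Q →* Kˣ) x, (f^[i]) ξ ((φ ^ i) x) = ξ x := by
      intro i
      induction i with
      | zero => intro ξ x; rfl
      | succ i ih =>
        intro ξ x
        rw [Function.iterate_succ_apply', pow_succ', MulAut.mul_apply]
        show (f^[i]) ξ (φ⁻¹ (φ ((φ ^ i) x))) = ξ x
        rw [MulAut.inv_apply_self, ih]
    obtain ⟨j, hj, hjx, hjmin⟩ := exists_period f θ hp.out (n := n) (MonoidHom.ext fun x => by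
      have := hit (p ^ n) θ x
      rwa [h.pow, MulAut.one_apply] at this)
    rcases Nat.lt_or_ge j n with hjn | hjn
    · obtain ⟨u, hu⟩ : p ^ j ∣ p ^ (n - 1) := pow_dvd_pow p (by omega)
      have h1 : (f^[p ^ (n - 1)]) θ = θ := by
        rw [hu]; exact Function.IsPeriodicPt.mul_const (show Function.IsPeriodicPt f (p ^ j) θ from hjx) u
      refine hθτ (MonoidHom.ext fun x => ?_)
      have := hit (p ^ (n - 1)) θ x
      rw [h1] at this
      exact this
    · obtain rfl : j = n := le_antisymm hj hjn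
      have hwt : ∀ i, i < p ^ j → ∀ x, ρ x ((S ^ i) v) = ((f^[i]) θ x : K) • (S ^ i) v := by
        intro i _ x
        obtain ⟨x, rfl⟩ := (φ ^ i).surjective x
        rw [hit, ← Module.End.mul_apply, ← hSpow, Module.End.mul_apply, hv, map_smul]
      obtain ⟨h0, hfix⟩ := exists_fixed_of_orbit (fun x => ρ x) (pow_pos hp.out.pos j)
        (fun i x => ((f^[i]) θ x : K)) hv0 (by rw [hSn]; rfl) hwt fun i k hik hk he => by
          have h1 : (f^[i]) θ = (f^[k]) θ := MonoidHom.ext fun x => Units.ext (congrFun he x)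
          refine hjmin (k - i) (by omega) (by omega) ?_
          have hinj : Function.Injective f := fun a b hab => MonoidHom.ext fun x => by
            have := DFunLike.congr_fun hab (φ x)
            simpa [f] using this
          refine hinj.iterate i ?_
          rw [← Function.iterate_add_apply, show i + (k - i) = k by omega, h1]
      exact h0 ((hno _ · hfix) |> not_imp_comm.mp <| fun hh => hh)
  -- `Q` nonabelian
  have hZ := h.center_eq_frattini hpq hna
  have hcmem : ∀ x y : Q, ⁅x, y⁆ ∈ Subgroup.center Q := fun x y => by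
    rw [hZ]
    exact commutator_le_frattini' h.isPGroup
      (Subgroup.commutator_mem_commutator (Subgroup.mem_top x) (Subgroup.mem_top y))
  let cm : Q → Q → Subgroup.center Q := fun x y => ⟨⁅x, y⁆, hcmem x y⟩
  have hcen : ∀ (z : Subgroup.center Q) (g : Q), (z : Q) * g = g * z := fun z g =>
    (Subgroup.mem_center_iff.mp z.2 g).symm
  have hcm_mul : ∀ x x' y, cm (x * x') y = cm x y * cm x' y := fun x x' y => Subtype.ext (by
    show ⁅x * x', y⁆ = ⁅x, y⁆ * ⁅x', y⁆
    have e : ⁅x * x', y⁆ = x * ⁅x', y⁆ * x⁻¹ * ⁅x, y⁆ := by simp [commutatorElement_def, mul_assoc]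
    rw [e, ← hcen ⟨_, hcmem x' y⟩ x, mul_inv_cancel_right, hcen ⟨_, hcmem x' y⟩])
  have hcm_one : ∀ y, cm 1 y = 1 := fun y => Subtype.ext (commutatorElement_one_left y)
  have hcm_swap : ∀ x y, cm y x = (cm x y)⁻¹ := fun x y => Subtype.ext (commutatorElement_inv x y).symm
  have hcm_center : ∀ (z : Subgroup.center Q) y, cm z y = 1 := fun z y => Subtype.ext
    (commutatorElement_eq_one_iff_mul_comm.mpr (hcen z y))
  have hρcomm : ∀ x y, ρ x * ρ y = ρ (cm x y : Q) * (ρ y * ρ x) := fun x y => by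
    rw [← map_mul, ← map_mul, ← map_mul]
    congr 1
    show x * y = ⁅x, y⁆ * (y * x)
    simp [commutatorElement_def, mul_assoc]
  -- the weight on the centre
  obtain ⟨θ, v₁, hv₁0, hv₁, x₁, y₁, hxy₁⟩ : ∃ (θ : Subgroup.center Q →* Kˣ) (v : V), v ≠ 0 ∧
      (∀ z : Subgroup.center Q, ρ (z : Q) v = (θ z : K) • v) ∧ ∃ x y, θ (cm x y) ≠ 1 := by
    by_contra hall
    push Not at hall
    refine hna fun a b => ?_
    have h1 : ρ (cm a b : Q) = ρ 1 := LinearMap.ext_on
      (span_weights_of_commute (hQK _ (h.isPGroup.to_subgroup _)) (ρ.comp (Subgroup.center Q).subtype)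
        fun z w => by simp only [MonoidHom.comp_apply, Subgroup.coe_subtype, ← map_mul, hcen z w]) (by
      rintro v ⟨θ, hθ⟩
      by_cases hv : v = 0
      · subst hv; simp
      rw [map_one, Module.End.one_apply]
      have := hθ (cm a b)
      rw [MonoidHom.comp_apply, Subgroup.coe_subtype] at this
      rw [this, hall θ v hv (fun z => hθ z) a b, Units.val_one, one_smul])
    exact commutatorElement_eq_one_iff_mul_comm.mp (hρ h1)
  let φZ := Alperin.restrict φ (Subgroup.center Q) (mem_iff_of_char φ _)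
  have hφZ : ∀ (i : ℕ) (z : Subgroup.center Q), (((φZ ^ i) z : Subgroup.center Q) : Q) = (φ ^ i) z :=
    fun i z => restrict_pow _ _ _ i z
  let fZ : (Subgroup.center Q →* Kˣ) → (Subgroup.center Q →* Kˣ) :=
    fun ξ => ξ.comp (φZ⁻¹ : MulAut (Subgroup.center Q)).toMonoidHom
  have hitZ : ∀ (i : ℕ) (ξ : Subgroup.center Q →* Kˣ) z, (fZ^[i]) ξ ((φZ ^ i) z) = ξ z := by
    intro i
    induction i with
    | zero => intro ξ x; rfl
    | succ i ih =>
      intro ξ x
      rw [Function.iterate_succ_apply', pow_succ', MulAut.mul_apply]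
      show (fZ^[i]) ξ (φZ⁻¹ (φZ ((φZ ^ i) x))) = ξ x
      rw [MulAut.inv_apply_self, ih]
  have hinjZ : Function.Injective fZ := fun a b hab => MonoidHom.ext fun x => by
    have := DFunLike.congr_fun hab (φZ x)
    simpa [fZ] using this
  have hφZn : φZ ^ p ^ n = 1 := MulEquiv.ext fun z => Subtype.ext (by rw [hφZ, h.pow]; rfl)
  obtain ⟨j, hj, hjx, hjmin⟩ := exists_period fZ θ hp.out (n := n) (MonoidHom.ext fun z => by
    have := hitZ (p ^ n) θ z
    rwa [hφZn, MulAut.one_apply] at this)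
  set d := p ^ j with hd
  have hθd : ∀ z, θ ((φZ ^ d) z) = θ z := fun z => by
    have := hitZ d θ z
    rwa [hjx] at this
  set Wθ := wspace (fun z : Subgroup.center Q => ρ (z : Q)) (fun z => (θ z : K)) with hWθ
  set β := S ^ d with hβ
  -- `β` has no fixed vector on the weight space
  have hβW : ∀ v ∈ Wθ, β v = v → v = 0 := by
    intro v hv hfix
    by_contra hv0
    have hwt : ∀ i, i < d → ∀ z : Subgroup.center Q,
        ρ (z : Q) ((S ^ i) v) = ((fZ^[i]) θ z : K) • (S ^ i) v := by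
      intro i _ z
      obtain ⟨z, rfl⟩ := (φZ ^ i).surjective z
      rw [hitZ, hφZ, ← Module.End.mul_apply, ← hSpow, Module.End.mul_apply, hv z, map_smul]
    obtain ⟨h0, h1⟩ := exists_fixed_of_orbit (fun z : Subgroup.center Q => ρ (z : Q))
      (pow_pos hp.out.pos j) (fun i z => ((fZ^[i]) θ z : K)) hv0 hfix hwt fun i k hik hk he => by
        have h1 : (fZ^[i]) θ = (fZ^[k]) θ := MonoidHom.ext fun x => Units.ext (congrFun he x)
        refine hjmin (k - i) (by omega) (by omega) ?_
        refine hinjZ.iterate i ?_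
        rw [← Function.iterate_add_apply, show i + (k - i) = k by omega, h1]
    exact h0 (by by_contra hh; exact hno _ hh h1)
  -- the radical
  let Qr : Subgroup Q :=
    { carrier := {x | ∀ y, θ (cm x y) = 1}
      one_mem' := fun y => by rw [hcm_one, map_one]
      mul_mem' := fun {a b} ha hb y => by rw [hcm_mul, map_mul, ha y, hb y, one_mul]
      inv_mem' := fun {a} ha y => by
        have := hcm_mul a⁻¹ a y
        rw [inv_mul_cancel, hcm_one] at this
        have := congrArg θ this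
        rw [map_one, map_mul, ha y, mul_one] at this
        exact this.symm }
  have hQrmem : ∀ {x}, x ∈ Qr ↔ ∀ y, θ (cm x y) = 1 := fun {x} => Iff.rfl
  have hZQr : Subgroup.center Q ≤ Qr := fun z hz y => by rw [hcm_center ⟨z, hz⟩ y, map_one]
  haveI hQrn : Qr.Normal := ⟨fun x hx g => by
    have : g * x * g⁻¹ = ⁅g, x⁆ * x := by simp [commutatorElement_def]
    rw [this]; exact mul_mem (hZQr (hcmem g x)) hx⟩
  let φd := φ ^ d
  have hcmφ : ∀ (i : ℕ) x y, cm ((φ ^ i) x) ((φ ^ i) y) = (φZ ^ i) (cm x y) := fun i x y =>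
    Subtype.ext (by rw [hφZ]; exact (map_commutatorElement (φ ^ i) x y).symm)
  have hQrφ : ∀ x, x ∈ Qr ↔ φd x ∈ Qr := fun x => by
    constructor
    · intro hx y
      obtain ⟨y, rfl⟩ := (φ ^ d).surjective y
      rw [hcmφ, hθd, hx y]
    · intro hx y
      rw [← hθd, ← hcmφ]
      exact hx _
  have hWinv : ∀ (x : Q), ∀ v ∈ Wθ, ρ x v ∈ Wθ := fun x v hv z => by
    show ρ (z : Q) (ρ x v) = _
    rw [← Module.End.mul_apply, ← map_mul, hcen, map_mul, Module.End.mul_apply, hv z, map_smul]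
  have hWval : ∀ (z : Subgroup.center Q), ∀ v ∈ Wθ, ρ (z : Q) v = (θ z : K) • v :=
    fun z v hv => hv z
  let ρW : Q →* Module.End K Wθ :=
    { toFun := fun x => (ρ x).restrict (hWinv x)
      map_one' := LinearMap.ext fun v => Subtype.ext (by simp [LinearMap.restrict_apply])
      map_mul' := fun x y => LinearMap.ext fun v => Subtype.ext (by simp [LinearMap.restrict_apply]) }
  haveI : Nontrivial Wθ := ⟨⟨⟨v₁, hv₁⟩, 0, fun e => hv₁0 (congrArg Subtype.val e)⟩⟩
  obtain ⟨θ', v₂, hv₂0, hv₂⟩ : ∃ (θ' : Qr →* Kˣ) (v : Wθ), v ≠ 0 ∧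
      ∀ r : Qr, ρ (r : Q) (v : V) = (θ' r : K) • (v : V) := by
    have hspan := span_weights_of_commute (hQK _ (h.isPGroup.to_subgroup Qr)) (ρW.comp Qr.subtype)
      fun a b => LinearMap.ext fun v => Subtype.ext (by
        show (ρ (a : Q) * ρ (b : Q)) (v : V) = (ρ (b : Q) * ρ (a : Q)) (v : V)
        rw [hρcomm, Module.End.mul_apply, Module.End.mul_apply, hWval (cm a b) _ (hWinv _ _ (hWinv _ _ v.2)),
          a.2 b, Units.val_one, one_smul])
    by_contra hall
    push Not at hall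
    have hbot : Submodule.span K {v : Wθ | ∃ θ' : Qr →* Kˣ, ∀ r, (ρW.comp Qr.subtype) r v = (θ' r : K) • v} = ⊥ := by
      rw [Submodule.span_eq_bot]
      rintro v ⟨θ', hθ'⟩
      by_contra hv
      obtain ⟨r, hr⟩ := hall θ' v hv
      exact hr (congrArg Subtype.val (hθ' r))
    rw [hspan] at hbot
    exact top_ne_bot hbot
  have hext : ∀ z : Subgroup.center Q, θ' ⟨z, hZQr z.2⟩ = θ z := fun z => Units.ext (by
    have h1 := hv₂ ⟨z, hZQr z.2⟩
    rw [show ρ ((⟨z, hZQr z.2⟩ : Qr) : Q) (v₂ : V) = (θ z : K) • (v₂ : V) from v₂.2 z] at h1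
    exact (smul_left_injective K (show (v₂ : V) ≠ 0 from fun e => hv₂0 (Subtype.ext e)) h1).symm)
  let φr := Alperin.restrict φd Qr hQrφ
  have hφr : ∀ (i : ℕ) (r : Qr), (((φr ^ i) r : Qr) : Q) = (φ ^ (d * i)) r := fun i r => by
    rw [restrict_pow, ← pow_mul]
  let fr : (Qr →* Kˣ) → (Qr →* Kˣ) := fun ξ => ξ.comp (φr⁻¹ : MulAut Qr).toMonoidHom
  have hitr : ∀ (i : ℕ) (ξ : Qr →* Kˣ) r, (fr^[i]) ξ ((φr ^ i) r) = ξ r := by
    intro i
    induction i with
    | zero => intro ξ x; rfl
    | succ i ih =>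
      intro ξ x
      rw [Function.iterate_succ_apply', pow_succ', MulAut.mul_apply]
      show (fr^[i]) ξ (φr⁻¹ (φr ((φr ^ i) x))) = ξ x
      rw [MulAut.inv_apply_self, ih]
  have hinjr : Function.Injective fr := fun a b hab => MonoidHom.ext fun x => by
    have := DFunLike.congr_fun hab (φr x)
    simpa [fr] using this
  have hdn : d * p ^ (n - j) = p ^ n := by rw [hd, ← pow_add, Nat.add_sub_cancel' hj]
  have hφrn : φr ^ p ^ (n - j) = 1 := MulEquiv.ext fun r => Subtype.ext (by rw [hφr, hdn, h.pow]; rfl)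
  obtain ⟨i₀, hi₀, hix, himin⟩ := exists_period fr θ' hp.out (n := n - j) (MonoidHom.ext fun r => by
    have := hitr (p ^ (n - j)) θ' r
    rwa [hφrn, MulAut.one_apply] at this)
  set D := d * p ^ i₀ with hD
  have hθD : ∀ r, θ' ((φr ^ p ^ i₀) r) = θ' r := fun r => by
    have := hitr (p ^ i₀) θ' r
    rwa [hix] at this
  set γ := S ^ D with hγ
  set U := wspace (fun r : Qr => ρ (r : Q)) (fun r => (θ' r : K)) with hU
  have hUW : U ≤ Wθ := fun v hv z => by
    show ρ (z : Q) v = (θ z : K) • v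
    rw [← hext z]; exact hv ⟨z, hZQr z.2⟩
  have hUne : Nontrivial U :=
    ⟨⟨⟨(v₂ : V), fun r => hv₂ r⟩, 0, fun e => hv₂0 (Subtype.ext (congrArg (fun w : U => (w : V)) e))⟩⟩
  -- `γ` has no fixed vector on `U`
  have hγU : ∀ v ∈ U, γ v = v → v = 0 := by
    intro v hv hfix
    by_contra hv0
    have hβpow : ∀ l : ℕ, β ^ l = S ^ (d * l) := fun l => by rw [hβ, ← pow_mul]
    have hwt : ∀ l, l < p ^ i₀ → ∀ r : Qr,
        ρ (r : Q) ((β ^ l) v) = ((fr^[l]) θ' r : K) • (β ^ l) v := by
      intro l _ r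
      obtain ⟨r, rfl⟩ := (φr ^ l).surjective r
      rw [hitr, hφr, hβpow, ← Module.End.mul_apply, ← hSpow, Module.End.mul_apply, hv r, map_smul]
    obtain ⟨h0, h1⟩ := exists_fixed_of_orbit (fun r : Qr => ρ (r : Q)) (pow_pos hp.out.pos i₀)
      (fun l r => ((fr^[l]) θ' r : K)) hv0 (by rw [hβpow, ← hD]; exact hfix) hwt fun l k hlk hk he => by
        have h1 : (fr^[l]) θ' = (fr^[k]) θ' := MonoidHom.ext fun x => Units.ext (congrFun he x)
        refine himin (k - l) (by omega) (by omega) ?_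
        refine hinjr.iterate l ?_
        rw [← Function.iterate_add_apply, show l + (k - l) = k by omega, h1]
    refine h0 (hβW _ (sum_mem fun l _ => ?_) h1)
    intro z
    obtain ⟨z, rfl⟩ := (φZ ^ (d * l)).surjective z
    show ρ (((φZ ^ (d * l)) z : Subgroup.center Q) : Q) ((β ^ l) v) =
      (θ ((φZ ^ (d * l)) z) : K) • (β ^ l) v
    rw [hβpow, hφZ, ← Module.End.mul_apply, ← hSpow, Module.End.mul_apply,
      hWval z v (hUW hv), map_smul]
    congr 2
    have h2 : ∀ l z, θ ((φZ ^ (d * l)) z) = θ z := by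
      intro l
      induction l with
      | zero => intro z; simp
      | succ l ih => intro z; rw [Nat.mul_succ, add_comm, pow_add, MulAut.mul_apply, hθd, ih]
    exact (h2 l z).symm
  have hin : j + i₀ < n := by
    by_contra hge
    obtain ⟨v, hv⟩ := exists_ne (0 : U)
    refine hv (Subtype.ext (hγU v v.2 ?_))
    have hDn : D = p ^ n := by rw [hD, hd, ← pow_add]; congr 1; omega
    rw [hγ, hDn, hSn]; rfl
  set k' := n - j - i₀ with hk'
  set m := p ^ k' with hm
  have hDm : D * m = p ^ n := by rw [hD, hd, hm, ← pow_add, ← pow_add]; congr 1; omega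
  -- the twisted group algebra
  let rep : Q ⧸ Qr → Q := fun a => if a = 1 then 1 else a.out
  have hrep : ∀ a : Q ⧸ Qr, ((rep a : Q) : Q ⧸ Qr) = a := fun a => by
    simp only [rep]
    split_ifs with ha
    · exact ha.symm
    · exact QuotientGroup.out_eq' a
  letI : CommGroup (Q ⧸ Qr) :=
    { (inferInstance : Group (Q ⧸ Qr)) with
      mul_comm := fun a b => by
        induction a using QuotientGroup.induction_on with
        | H a =>
        induction b using QuotientGroup.induction_on with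
        | H b =>
        show ((a * b : Q) : Q ⧸ Qr) = ((b * a : Q) : Q ⧸ Qr)
        rw [QuotientGroup.eq]
        have := hZQr (hcmem b⁻¹ a⁻¹)
        simpa [commutatorElement_def, mul_assoc] using this }
  have hUinv : ∀ (x : Q), ∀ v ∈ U, ρ x v ∈ U := fun x v hv r => by
    show ρ (r : Q) (ρ x v) = _
    rw [← Module.End.mul_apply, hρcomm, Module.End.mul_apply, Module.End.mul_apply, hv r, map_smul,
      map_smul, hWval (cm r x) _ (hWinv x v (hUW hv)), r.2 x, Units.val_one, one_smul]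
  let e : Q ⧸ Qr → Module.End K U := fun a => (ρ (rep a)).restrict (hUinv _)
  have hr1 : ∀ a b : Q ⧸ Qr, (rep (a * b))⁻¹ * (rep a * rep b) ∈ Qr := fun a b => by
    rw [← QuotientGroup.eq, QuotientGroup.mk_mul, hrep, hrep, hrep]
  let c : Q ⧸ Qr → Q ⧸ Qr → K := fun a b => θ' ⟨_, hr1 a b⟩
  have hc : ∀ x (r : Qr), ∀ v ∈ U, ρ (x * r) v = (θ' r : K) • ρ x v := fun x r v hv => by
    rw [map_mul, Module.End.mul_apply, hv r, map_smul]
  have hT : Twisted e c :=
    { c_ne := fun a b => Units.ne_zero _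
      mul := fun a b => LinearMap.ext fun v => Subtype.ext (by
        show ρ (rep a) (ρ (rep b) (v : V)) = c a b • ρ (rep (a * b)) (v : V)
        rw [← Module.End.mul_apply, ← map_mul, ← hc (rep (a * b)) ⟨_, hr1 a b⟩ v v.2,
          mul_inv_cancel_left])
      one := LinearMap.ext fun v => Subtype.ext (by
        show ρ (rep 1) (v : V) = v
        simp [rep])
      nondeg := fun a ha => by
        have hna' : rep a ∉ Qr := fun hmem => ha (by rw [← hrep a]; exact (QuotientGroup.eq_one_iff _).mpr hmem)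
        rw [hQrmem] at hna'
        push Not at hna'
        obtain ⟨y, hy⟩ := hna'
        refine ⟨(y : Q ⧸ Qr), fun heq => hy ?_⟩
        have hyr : y⁻¹ * rep (y : Q ⧸ Qr) ∈ Qr := QuotientGroup.eq.mp (hrep _).symm
        have hcmy : θ (cm (rep a) (rep (y : Q ⧸ Qr))) = θ (cm (rep a) y) := by
          rw [hcm_swap, hcm_swap y, map_inv, map_inv]
          congr 1
          have e1 : rep (y : Q ⧸ Qr) = y * (y⁻¹ * rep (y : Q ⧸ Qr)) := (mul_inv_cancel_left _ _).symm
          rw [e1, hcm_mul, map_mul, hyr, mul_one]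
        obtain ⟨v, hv⟩ := exists_ne (0 : U)
        have h1 : ρ (rep a) (ρ (rep (y : Q ⧸ Qr)) (v : V)) = ρ (rep (y : Q ⧸ Qr)) (ρ (rep a) (v : V)) :=
          congrArg Subtype.val (LinearMap.congr_fun heq v)
        rw [← Module.End.mul_apply, hρcomm, Module.End.mul_apply, Module.End.mul_apply,
          hWval (cm (rep a) (rep (y : Q ⧸ Qr))) _ (hWinv _ _ (hWinv _ _ (hUW v.2))), hcmy] at h1
        have hne : ρ (rep (y : Q ⧸ Qr)) (ρ (rep a) (v : V)) ≠ 0 := fun h0 => hv (Subtype.ext (by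
          have := congrArg (ρ ((rep (y : Q ⧸ Qr) * rep a)⁻¹)) h0
          rw [← Module.End.mul_apply (ρ (rep (y : Q ⧸ Qr))), ← map_mul, ← Module.End.mul_apply,
            ← map_mul, inv_mul_cancel, map_one, map_zero, Module.End.one_apply] at this
          exact this))
        exact Units.ext (smul_left_injective K hne
          (show (θ (cm (rep a) y) : K) • ρ (rep (y : Q ⧸ Qr)) (ρ (rep a) (v : V)) = (1 : K) • _ by
            rw [one_smul]; exact h1)) }
  have hQrD : ∀ x, x ∈ Qr ↔ (φ ^ D) x ∈ Qr := fun x => by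
    rw [hD, pow_mul]; exact pow_mem_iff φd Qr hQrφ _ x
  let φ0 : MulAut (Q ⧸ Qr) := onQuot φd Qr hQrφ
  have hφ0 : ∀ (i : ℕ) (x : Q), (φ0 ^ i) (x : Q ⧸ Qr) = (((φ ^ (d * i)) x : Q) : Q ⧸ Qr) := fun i x => by
    rw [onQuot_pow, ← pow_mul]
  let φ1 : MulAut (Q ⧸ Qr) := φ0 ^ p ^ i₀
  have hφ1m : φ1 ^ m = 1 := MulEquiv.ext fun a => by
    induction a using QuotientGroup.induction_on with
    | H x => rw [← pow_mul, hφ0, ← mul_assoc, ← hD, hDm, h.pow]; rfl
  have hτQr : ∀ x, x⁻¹ * τ x ∈ Qr → x ∈ Qr := by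
    intro x hx
    let π := QuotientGroup.mk' (frattini Q)
    let t := onQuot τ (frattini Q) (mem_iff_of_char τ _)
    have hcommF : ∀ u w : Q ⧸ frattini Q, u * w = w * u := by
      intro u w
      induction u using QuotientGroup.induction_on with
      | H u =>
      induction w using QuotientGroup.induction_on with
      | H w =>
      show ((u * w : Q) : Q ⧸ frattini Q) = ((w * u : Q) : Q ⧸ frattini Q)
      rw [QuotientGroup.eq, ← hZ]
      simpa [commutatorElement_def, mul_assoc] using hcmem w⁻¹ u⁻¹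
    let S' : Subgroup (Q ⧸ frattini Q) := Qr.map π
    have hτr : ∀ r ∈ Qr, τ r ∈ Qr := fun r hr => by
      have h1 := (pow_mem_iff φd Qr hQrφ (p ^ (n - 1 - j)) r).mp hr
      rwa [← pow_mul, hd, ← pow_add, show j + (n - 1 - j) = n - 1 by omega] at h1
    let g : S' → S' := fun u => ⟨(u : Q ⧸ frattini Q)⁻¹ * t u, by
      obtain ⟨r, hr, hru⟩ := u.2
      rw [← hru]
      exact ⟨r⁻¹ * τ r, mul_mem (inv_mem hr) (hτr r hr), rfl⟩⟩
    have hginj : ∀ u w : Q ⧸ frattini Q, u⁻¹ * t u = w⁻¹ * t w → u = w := by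
      intro u w huw
      obtain ⟨r, hr⟩ := QuotientGroup.mk_surjective (u * w⁻¹)
      have h1 : r ∈ frattini Q := by
        refine h.mem_frattini_of_diff hpq ((QuotientGroup.eq_one_iff _).mp ?_)
        show (r : Q ⧸ frattini Q)⁻¹ * t (r : Q ⧸ frattini Q) = 1
        have e1 : t u = u * (w⁻¹ * t w) := by rw [← huw, mul_inv_cancel_left]
        rw [hr, map_mul, map_inv, e1]; group
      rw [← QuotientGroup.eq_one_iff, hr] at h1
      exact mul_inv_eq_one.mp h1
    obtain ⟨u, hu⟩ := (Finite.injective_iff_surjective (f := g)).mp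
      (fun u w huw => Subtype.ext (hginj _ _ (congrArg Subtype.val huw)))
      ⟨π (x⁻¹ * τ x), Subgroup.mem_map_of_mem π hx⟩
    have hxu : π x = (u : Q ⧸ frattini Q) :=
      (hginj _ _ (congrArg Subtype.val hu)).symm
    obtain ⟨r, hr, hru⟩ := u.2
    have h3 : r⁻¹ * x ∈ frattini Q := QuotientGroup.eq.mp (hru.trans hxu.symm)
    rw [← hZ] at h3
    simpa using mul_mem hr (hZQr h3)
  have hfree : ∀ l, 0 < l → l < m → ∀ a, (φ1 ^ l) a = a → a = 1 := by
    intro l hl hlm a ha
    have hper0 : Function.IsPeriodicPt (φ0 : Q ⧸ Qr → Q ⧸ Qr) (p ^ i₀ * l) a := by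
      rw [← pow_mul] at ha
      show (⇑φ0)^[p ^ i₀ * l] a = a
      rw [← coe_pow_iterate]; exact ha
    have hper1 : Function.IsPeriodicPt (φ0 : Q ⧸ Qr → Q ⧸ Qr) (p ^ (n - j)) a := by
      show (⇑φ0)^[p ^ (n - j)] a = a
      rw [← coe_pow_iterate]
      induction a using QuotientGroup.induction_on with
      | H x => rw [hφ0, hdn, h.pow]; rfl
    have hper := hper0.gcd hper1
    obtain ⟨s, hs, hseq⟩ := (Nat.dvd_prime_pow hp.out).mp (Nat.gcd_dvd_right (p ^ i₀ * l) (p ^ (n - j)))
    have hslt : s < n - j := by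
      rcases Nat.lt_or_ge s (n - j) with h' | h'
      · exact h'
      · exfalso
        have h1 : p ^ i₀ * m ∣ p ^ i₀ * l := by
          rw [hm, ← pow_add, show i₀ + k' = n - j by omega]
          exact (pow_dvd_pow p h').trans (hseq ▸ Nat.gcd_dvd_left _ _)
        have := Nat.le_of_dvd hl (Nat.dvd_of_mul_dvd_mul_left (pow_pos hp.out.pos i₀) h1)
        omega
    rw [hseq] at hper
    have h2 : Function.IsPeriodicPt (φ0 : Q ⧸ Qr → Q ⧸ Qr) (p ^ (n - 1 - j)) a := by
      obtain ⟨u, hu⟩ : p ^ s ∣ p ^ (n - 1 - j) := pow_dvd_pow p (by omega)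
      rw [hu]; exact hper.mul_const u
    induction a using QuotientGroup.induction_on with
    | H x =>
      have h3 : (φ0 ^ p ^ (n - 1 - j)) (x : Q ⧸ Qr) = (x : Q ⧸ Qr) := by rw [coe_pow_iterate]; exact h2
      rw [hφ0, hd, ← pow_add, show j + (n - 1 - j) = n - 1 by omega] at h3
      refine (QuotientGroup.eq_one_iff _).mpr (hτQr x ?_)
      exact QuotientGroup.eq.mp h3.symm
  have hγUinv : ∀ v ∈ U, γ v ∈ U := by
    intro v hv r
    obtain ⟨r, rfl⟩ := (φr ^ p ^ i₀).surjective r
    show ρ (((φr ^ p ^ i₀) r : Qr) : Q) (γ v) = (θ' ((φr ^ p ^ i₀) r) : K) • γ v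
    rw [hφr, ← hD, ← Module.End.mul_apply, ← hSpow, Module.End.mul_apply, hv r, map_smul, hθD]
  have hr2 : ∀ a : Q ⧸ Qr, (rep (φ1 a))⁻¹ * (φ ^ D) (rep a) ∈ Qr := fun a => by
    rw [← QuotientGroup.eq, hrep]
    conv_lhs => rw [← hrep a]
    rw [hφ0]
  have hE2 : 1 < Nat.card (Q ⧸ Qr) := by
    haveI : Nontrivial (Q ⧸ Qr) := QuotientGroup.nontrivial_iff.mpr fun htop =>
      hxy₁ ((htop ▸ Subgroup.mem_top x₁ : x₁ ∈ Qr) y₁)
    exact Finite.one_lt_card
  have hmodd : Odd m := hodd.pow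
  have hk'0 : 1 ≤ k' := by omega
  have hm3 : 3 ≤ m := by
    have h3 : 3 ≤ p := by
      obtain ⟨i, hi⟩ := hodd
      have := hp.out.two_le
      omega
    exact h3.trans (Nat.le_self_pow (by omega) p)
  have hcount := card_eq_sub_one_sq hT (hQK _ (h.isPGroup.to_quotient Qr)) hE2 hmodd (by omega)
    (by rw [hm, Nat.cast_pow]; exact pow_ne_zero _ hpK) hφ1m hfree (γ.restrict hγUinv)
    (fun a => (θ' ⟨_, hr2 a⟩ : K))
    (fun a => LinearMap.ext fun v => Subtype.ext (by
      show γ (ρ (rep a) (v : V)) = (θ' ⟨_, hr2 a⟩ : K) • ρ (rep (φ1 a)) (γ (v : V))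
      rw [← Module.End.mul_apply, hSpow, Module.End.mul_apply, ← hc (rep (φ1 a)) ⟨_, hr2 a⟩ _
        (hγUinv v v.2), mul_inv_cancel_left]))
    (LinearMap.ext fun v => Subtype.ext (by
      rw [Module.End.pow_restrict]
      show (γ ^ m) (v : V) = _
      rw [hγ, ← pow_mul, hDm, hSn]; rfl))
    (fun v hv => Subtype.ext (hγU _ v.2 (congrArg Subtype.val hv)))
  -- `q = 2` and the sizes
  obtain ⟨a₀, ha₀⟩ := IsPGroup.iff_card.mp (h.isPGroup.to_quotient Qr)
  have hq2 : q = 2 := by
    have h2d : 2 ∣ (m - 1) ^ 2 := by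
      obtain ⟨i, hi⟩ := hmodd
      exact dvd_pow ⟨i, by omega⟩ two_ne_zero
    rw [← hcount, ha₀] at h2d
    exact ((Nat.prime_dvd_prime_iff_eq Nat.prime_two hq.out).mp (Nat.prime_two.dvd_of_dvd_pow h2d)).symm
  subst hq2
  obtain ⟨b, -, hb⟩ : ∃ b, b ≤ a₀ ∧ m - 1 = 2 ^ b :=
    (Nat.dvd_prime_pow Nat.prime_two).mp (ha₀ ▸ hcount ▸ dvd_pow_self (m - 1) two_ne_zero)
  have hb1 : 1 ≤ b := by
    rcases Nat.eq_zero_or_pos b with hb0 | hb0
    · subst hb0; simp at hb; omega
    · exact hb0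
  have hE0 : Nat.card (Q ⧸ Qr) = 2 ^ (2 * b) := by rw [hcount, hb, ← pow_mul, mul_comm]
  -- the quotient by the centre
  have hφc : ∀ x, x ∈ Subgroup.center Q ↔ φ x ∈ Subgroup.center Q := mem_iff_of_char φ _
  let φE : MulAut (Q ⧸ Subgroup.center Q) := onQuot φ _ hφc
  have hdiv : p ^ n ∣ Nat.card (Q ⧸ Subgroup.center Q) - 1 := by
    refine dvd_card_sub_one_of_free φE (p ^ n) (pow_pos hp.out.pos n) (MulEquiv.ext fun a => ?_) ?_
    · induction a using QuotientGroup.induction_on with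
      | H x => rw [onQuot_pow, h.pow]; rfl
    · intro l hl hln a ha
      have hper0 : Function.IsPeriodicPt (φE : _ → _) l a := by
        show (⇑φE)^[l] a = a
        rw [← coe_pow_iterate]; exact ha
      have hper1 : Function.IsPeriodicPt (φE : _ → _) (p ^ n) a := by
        show (⇑φE)^[p ^ n] a = a
        rw [← coe_pow_iterate]
        induction a using QuotientGroup.induction_on with
        | H x => rw [onQuot_pow, h.pow]; rfl
      have hper := hper0.gcd hper1
      obtain ⟨s, hs, hseq⟩ := (Nat.dvd_prime_pow hp.out).mp (Nat.gcd_dvd_right l (p ^ n))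
      have hsl : p ^ s ≤ l := Nat.le_of_dvd hl (hseq ▸ Nat.gcd_dvd_left _ _)
      have hsn : s < n := (Nat.pow_lt_pow_iff_right hp.out.one_lt).mp (lt_of_le_of_lt hsl hln)
      rw [hseq] at hper
      have h2 : Function.IsPeriodicPt (φE : _ → _) (p ^ (n - 1)) a := by
        obtain ⟨u, hu⟩ : p ^ s ∣ p ^ (n - 1) := pow_dvd_pow p (by omega)
        rw [hu]; exact hper.mul_const u
      induction a using QuotientGroup.induction_on with
      | H x =>
        have h3 : (φE ^ p ^ (n - 1)) (x : Q ⧸ Subgroup.center Q) = x := by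
          rw [coe_pow_iterate]; exact h2
        rw [onQuot_pow] at h3
        refine (QuotientGroup.eq_one_iff _).mpr ?_
        have h4 := QuotientGroup.eq.mp h3.symm
        rw [hZ] at h4 ⊢
        exact h.mem_frattini_of_diff hpq h4
  obtain ⟨e₀, he₀⟩ := IsPGroup.iff_card.mp (h.isPGroup.to_quotient (Subgroup.center Q))
  have he0pos : 0 < e₀ := by
    by_contra h0
    have h1 : Subgroup.center Q = ⊤ := Subgroup.index_eq_one.mp (by
      rw [Subgroup.index_eq_card, he₀, show e₀ = 0 by omega, pow_zero])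
    exact hna fun a b => Subgroup.mem_center_iff.mp (h1 ▸ Subgroup.mem_top b) a
  have hlow := exponent_bound (k := k') hodd hb1 (by rw [← hb, ← hm]; omega) (by omega) he0pos
    (he₀ ▸ hdiv)
  rw [show n - k' = j + i₀ by omega] at hlow
  -- the embedding
  have hker : ∀ x, (∀ i : Fin d, (φ ^ (i : ℕ)) x ∈ Qr) → x ∈ Subgroup.center Q := by
    let R : Subgroup Q :=
      { carrier := {x | ∀ i : Fin d, (φ ^ (i : ℕ)) x ∈ Qr}
        one_mem' := fun i => by rw [map_one]; exact one_mem _
        mul_mem' := fun {a b} ha hb i => by rw [map_mul]; exact mul_mem (ha i) (hb i)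
        inv_mem' := fun {a} ha i => by rw [map_inv]; exact inv_mem (ha i) }
    have hdpos : 0 < d := pow_pos hp.out.pos j
    have hR : R = frattini Q := by
      refine h.eq_frattini hpq (fun x => ?_) (fun x hx i => ?_) ?_
      · constructor
        · intro hx i
          rw [← MulAut.mul_apply, ← pow_succ]
          rcases Nat.lt_or_ge ((i : ℕ) + 1) d with h' | h'
          · exact hx ⟨_, h'⟩
          · rw [show (i : ℕ) + 1 = d by omega]
            exact (hQrφ x).mp (by simpa using hx ⟨0, hdpos⟩)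
        · intro hx i
          rcases Nat.eq_zero_or_pos (i : ℕ) with h' | h'
          · rw [h', pow_zero, MulAut.one_apply, hQrφ]
            have := hx ⟨d - 1, by omega⟩
            rwa [← MulAut.mul_apply, ← pow_succ, Nat.sub_add_cancel hdpos] at this
          · have := hx ⟨i - 1, by omega⟩
            rwa [← MulAut.mul_apply, ← pow_succ, Nat.sub_add_cancel h'] at this
      · refine hZQr ?_
        rw [hZ]
        exact (mem_iff_of_char (φ ^ (i : ℕ)) (frattini Q) x).mp hx
      · intro htop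
        have := ((htop ▸ Subgroup.mem_top x₁ : x₁ ∈ R) ⟨0, hdpos⟩)
        exact hxy₁ (by simpa using this y₁)
    intro x hx
    rw [hZ, ← hR]; exact hx
  let F : Q ⧸ Subgroup.center Q → (Fin d → Q ⧸ Qr) :=
    fun a i => (((φ ^ (i : ℕ)) a.out : Q) : Q ⧸ Qr)
  have hFinj : Function.Injective F := by
    intro a b hab
    rw [← QuotientGroup.out_eq' a, ← QuotientGroup.out_eq' b, QuotientGroup.eq]
    refine hker _ fun i => ?_
    rw [map_mul, map_inv]
    exact QuotientGroup.eq.mp (congrFun hab i)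
  have hcards : Nat.card (Fin d → Q ⧸ Qr) = Nat.card (Q ⧸ Subgroup.center Q) := by
    refine le_antisymm ?_ (Nat.card_le_card_of_injective F hFinj)
    rw [Nat.card_fun, Nat.card_fin, hE0, he₀, ← pow_mul]
    refine Nat.pow_le_pow_right two_pos (le_trans ?_ hlow)
    exact Nat.mul_le_mul_left _ (Nat.pow_le_pow_right hp.out.pos (Nat.le_add_right j i₀))
  have hFsurj : Function.Surjective F := (Nat.bijective_iff_injective_and_card F).mpr ⟨hFinj, hcards.symm⟩ |>.2
  -- the contradiction: a nontrivial invariant weight on the commutators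
  haveI : NeZero d := ⟨(pow_pos hp.out.pos j).ne'⟩
  obtain ⟨a, ha⟩ := hFsurj (fun i => if i = 0 then (x₁ : Q ⧸ Qr) else 1)
  obtain ⟨b', hb'⟩ := hFsurj (fun i => if i = 0 then (y₁ : Q ⧸ Qr) else 1)
  set x := a.out with hx
  set y := b'.out with hy
  have hprod : ∏ i : Fin d, θ ((φZ ^ (i : ℕ)) (cm x y)) = θ (cm x₁ y₁) := by
    rw [Finset.prod_eq_single (0 : Fin d)]
    · have hxr : x⁻¹ * x₁ ∈ Qr := QuotientGroup.eq.mp (by simpa [F] using congrFun ha 0)
      have hyr : y⁻¹ * y₁ ∈ Qr := QuotientGroup.eq.mp (by simpa [F] using congrFun hb' 0)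
      rw [show ((0 : Fin d) : ℕ) = 0 from rfl, pow_zero, MulAut.one_apply,
        ← mul_inv_cancel_left x x₁, hcm_mul, map_mul, hxr, mul_one]
      conv_rhs => rw [hcm_swap, ← mul_inv_cancel_left y y₁, hcm_mul, map_inv, map_mul, hyr, mul_one]
      rw [hcm_swap y, map_inv]
    · intro i _ hi
      rw [← hcmφ]
      exact (show (φ ^ (i : ℕ)) x ∈ Qr by simpa [F, hi] using congrFun ha i) _
    · simp
  let ψ : Subgroup.center Q →* Kˣ :=
    ∏ i : Fin d, θ.comp (φZ ^ (i : ℕ)).toMonoidHom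
  have hψ : ∀ z, ψ z = ∏ i : Fin d, θ ((φZ ^ (i : ℕ)) z) := fun z => by
    simp [ψ]
  have hψφ : ∀ z, ψ (φZ z) = ψ z := by
    intro z
    rw [hψ, hψ, Fin.prod_univ_eq_prod_range (fun i => θ ((φZ ^ i) (φZ z))),
      Fin.prod_univ_eq_prod_range (fun i => θ ((φZ ^ i) z))]
    have h1 := Finset.prod_range_succ' (fun i => θ ((φZ ^ i) z)) d
    rw [Finset.prod_range_succ] at h1
    have h2 : θ ((φZ ^ d) z) = θ ((φZ ^ 0) z) := by rw [hθd]; rfl
    rw [h2] at h1
    refine Eq.trans ?_ (mul_right_cancel h1).symm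
    exact Finset.prod_congr rfl fun i _ => by rw [pow_succ, MulAut.mul_apply]
  have hψ1 : ∀ z, ψ z = 1 := by
    intro z
    obtain ⟨w, hw⟩ : ∃ w, w⁻¹ * φZ w = z := by
      refine Finite.surjective_of_injective (f := fun w => w⁻¹ * φZ w) ?_ z
      intro u w huw
      have hc := hcen (u * w⁻¹) 
      have h1 : φ ((u : Q) * (w : Q)⁻¹) = (u : Q) * (w : Q)⁻¹ := by
        have h2 : ((u : Q))⁻¹ * φ (u : Q) = (w : Q)⁻¹ * φ (w : Q) := congrArg Subtype.val huw
        have h3 : φ (u : Q) = (u : Q) * (w : Q)⁻¹ * φ (w : Q) := by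
          rw [mul_assoc, ← h2, mul_inv_cancel_left]
        rw [map_mul, map_inv, h3, mul_inv_cancel_right]
      exact Subtype.ext (mul_inv_eq_one.mp (hfpf _ h1))
    rw [← hw, map_mul, map_inv, hψφ, inv_mul_cancel]
  exact hxy₁ (by rw [← hprod, ← hψ, hψ1])

end CfsgLib.PGroups.ShultGross
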