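import Mathlib
import Cfsg.Agent.Lib.PGroups.ShultGross.Linear
import Cfsg.Agent.Lib.Core.Coprime
import Cfsg.Agent.Lib.Core.Cores
import Cfsg.Agent.Lib.Core.SolvableStruct
import Cfsg.Agent.Lib.Core.FPFFour

/-!
# The theorem of Shult and Gross

* `centralizes_of_no_fixed_vector`: the module form
* `top_mem_fitting`: `[G, τ] ≤ F(G)` for the element `τ` of order `p` in a fixed point free
  operator of `p`-power order
* `height_le`: the Fitting height is at most `n`
-/

set_option autoImplicit false
set_option linter.all false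

namespace CfsgLib.PGroups.ShultGross

open CfsgLib.PGroups.Alperin
open scoped commutatorElement TensorProduct

universe u

variable {p : ℕ} [hp : Fact p.Prime]

/-- A group with a fixed point free operator of `p`-power order has order prime to `p`. -/
theorem coprime_card_of_fpf {G : Type*} [Group G] [Finite G] {σ : MulAut G} {n : ℕ}
    (hσ : σ ^ p ^ n = 1) (hfpf : ∀ g : G, σ g = g → g = 1) : (Nat.card G).Coprime p := by
  have hP : IsPGroup p (Subgroup.zpowers σ) := fun g => ⟨n, by
    obtain ⟨k, hk⟩ := g.2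
    refine Subtype.ext ?_
    show (g : MulAut G) ^ p ^ n = 1
    rw [← hk, ← zpow_natCast, ← zpow_mul, mul_comm, zpow_mul, zpow_natCast, hσ, one_zpow]⟩
  have h := hP.card_modEq_card_fixedPoints G
  have h1 : MulAction.fixedPoints (Subgroup.zpowers σ) G = {1} := by
    ext g
    refine ⟨fun hg => hfpf g (hg ⟨σ, Subgroup.mem_zpowers σ⟩), fun hg => ?_⟩
    rw [Set.mem_singleton_iff.mp hg]
    exact fun a => map_one (a : MulAut G)
  rw [h1, Nat.card_coe_set_eq, Set.ncard_singleton] at h
  refine (hp.out.coprime_iff_not_dvd.mpr fun hd => hp.out.ne_one ?_).symm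
  exact Nat.dvd_one.mp ((Nat.ModEq.dvd_iff h dvd_rfl).mp hd)

set_option backward.isDefEq.respectTransparency false in
/-- The linear case over an arbitrary field. -/
theorem exists_fixed_of_finite_field {F : Type*} [Field F] {W : Type*} [AddCommGroup W] [Module F W]
    [Module.Finite F W] [Nontrivial W] {Q : Type*} [Group Q]
    [Finite Q] {q n : ℕ} [hq : Fact q.Prime] (hodd : Odd p) (hpq : p ≠ q)
    (hpF : (p : F) ≠ 0) (hqF : (q : F) ≠ 0) {φ : MulAut Q} (h : Minimal' p q n φ)
    (hfpf : ∀ x, φ x = x → x = 1) (ρ : Q →* Module.End F W) (hρ : Function.Injective ρ)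
    (S : Module.End F W) (hS : ∀ x, S * ρ x = ρ (φ x) * S) (hSn : S ^ p ^ n = 1) :
    ∃ v, v ≠ 0 ∧ S v = v := by
  let K := AlgebraicClosure F
  let B : Module.End F W →* Module.End K (K ⊗[F] W) :=
    { toFun := fun a => a.baseChange K
      map_one' := LinearMap.baseChange_id
      map_mul' := fun a b => LinearMap.baseChange_comp _ _ }
  have hinj : Function.Injective fun v : W => (1 : K) ⊗ₜ[F] v := by
    have h1 := Module.Flat.rTensor_preserves_injective_linearMap (M := W)
      (Algebra.linearMap F K) (algebraMap F K).injective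
    intro v w hvw
    have h2 : ((Algebra.linearMap F K).rTensor W) ((1 : F) ⊗ₜ v) =
        ((Algebra.linearMap F K).rTensor W) ((1 : F) ⊗ₜ w) := by
      simpa using hvw
    simpa using congrArg (fun z => TensorProduct.lid F W z) (h1 h2)
  have hBinj : Function.Injective B := by
    intro a b hab
    refine LinearMap.ext fun v => hinj ?_
    exact LinearMap.congr_fun hab ((1 : K) ⊗ₜ[F] v)
  haveI : Nontrivial (K ⊗[F] W) := hinj.nontrivial
  have hcast : ∀ l : ℕ, (l : F) ≠ 0 → (l : K) ≠ 0 := fun l hl h0 => hl (by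
    rw [← map_natCast (algebraMap F K), map_eq_zero] at h0
    exact h0)
  obtain ⟨v, hv0, hv⟩ := exists_fixed_vector_linear (K := K) (V := K ⊗[F] W) hodd hpq (hcast p hpF)
    (hcast q hqF) h hfpf (B.comp ρ) (hBinj.comp hρ) (B S)
    (fun x => by rw [MonoidHom.comp_apply, MonoidHom.comp_apply, ← map_mul, hS, map_mul])
    (by rw [← map_pow, hSn, map_one])
  by_contra hno
  push Not at hno
  have h1 : Function.Injective (S - 1 : Module.End F W) := by
    intro a b hab
    have h2 : S (a - b) = a - b := by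
      rw [map_sub]
      have h3 : S a - a = S b - b := hab
      rw [sub_eq_sub_iff_sub_eq_sub] at h3
      exact h3
    by_contra hne
    exact hno _ (sub_ne_zero.mpr hne) h2
  have h2 : Function.Injective ((S - 1 : Module.End F W).baseChange K) :=
    Module.Flat.lTensor_preserves_injective_linearMap _ h1
  refine hv0 (h2 ?_)
  rw [LinearMap.baseChange_sub, LinearMap.sub_apply, map_zero, Module.End.one_eq_id,
    LinearMap.baseChange_id, LinearMap.id_apply, sub_eq_zero]
  exact hv

/-- The module form. -/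
theorem centralizes_of_no_fixed_vector (hodd : Odd p) {r n : ℕ} [hr : Fact r.Prime] (hn : 1 ≤ n)
    {V : Type*} [CommGroup V] [Finite V] (hV : ∀ v : V, v ^ r = 1) {X : Subgroup (MulAut V)}
    [hX : Group.IsSolvable X] (hcore : Cfsg.pCore r X = ⊥) {s : MulAut V}
    (hnorm : ∀ x, x ∈ X ↔ MulAut.conj s x ∈ X) (hsn : s ^ p ^ n = 1)
    (hsV : ∀ v, s v = v → v = 1) (hsX : ∀ x ∈ X, MulAut.conj s x = x → x = 1) :
    ∀ x ∈ X, MulAut.conj (s ^ p ^ (n - 1)) x = x := by
  classical
  by_cases hVsub : Subsingleton V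
  · intro x _
    exact MulEquiv.ext fun v => Subsingleton.elim _ _
  haveI : Nontrivial V := not_subsingleton_iff_nontrivial.mp hVsub
  set θ : MulAut X := Alperin.restrict (MulAut.conj s) X hnorm with hθ
  have hθpow : ∀ (k : ℕ) (x : X), (((θ ^ k) x : X) : MulAut V) = MulAut.conj (s ^ k) x := fun k x => by
    rw [restrict_pow, map_pow]
  have hθn : θ ^ p ^ n = 1 := MulEquiv.ext fun x => Subtype.ext (by rw [hθpow, hsn, map_one]; rfl)
  have hθfix : ∀ x : X, θ x = x → x = 1 := fun x hx =>
    Subtype.ext (hsX x x.2 (congrArg Subtype.val hx))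
  have hXp : (Nat.card X).Coprime p := coprime_card_of_fpf hθn hθfix
  have hVp : (Nat.card V).Coprime p := coprime_card_of_fpf hsn hsV
  set τ := θ ^ p ^ (n - 1) with hτ
  have hτp : τ ^ p = 1 := by rw [hτ, ← pow_mul, ← pow_succ, Nat.sub_add_cancel hn, hθn]
  suffices hall : ∀ x : X, τ x = x by
    intro x hx
    rw [← hθpow (p ^ (n - 1)) ⟨x, hx⟩, ← hτ, hall]
  -- it suffices to treat the cores
  suffices hcores : ∀ q : Nat.Primes, ∀ x ∈ Cfsg.pCore (q : ℕ) X, τ x = x by
    have hfit : ∀ x ∈ Cfsg.fittingSubgroup X, τ x = x := by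
      intro x hx
      rw [CfsgLib.Core.fittingSubgroup_eq_iSup_pCore] at hx
      exact (iSup_le hcores : (⨆ q : Nat.Primes, Cfsg.pCore (q : ℕ) X) ≤
        τ.toMonoidHom.eqLocus (MonoidHom.id X)) hx
    intro x
    set k := x⁻¹ * τ x with hk
    have hkC : k ∈ Subgroup.centralizer (Cfsg.fittingSubgroup X : Set X) := by
      rw [Subgroup.mem_centralizer_iff]
      intro f hf
      have h1 : τ (x * f * x⁻¹) = x * f * x⁻¹ :=
        hfit _ ((inferInstance : (Cfsg.fittingSubgroup X).Normal).conj_mem f hf x)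
      rw [map_mul, map_mul, map_inv, hfit f hf] at h1
      symm
      calc x⁻¹ * τ x * f = x⁻¹ * (τ x * f * (τ x)⁻¹) * τ x := by group
        _ = f * (x⁻¹ * τ x) := by rw [h1]; group
    have hkfix : τ k = k := hfit k (CfsgLib.Components.centralizer_fitting_le_of_isSolvable hkC)
    have hrep : ∀ i : ℕ, (τ ^ i) x = x * k ^ i := by
      intro i
      induction i with
      | zero => simp
      | succ i ih =>
        rw [pow_succ', MulAut.mul_apply, ih, map_mul, map_pow, hkfix, pow_succ' k, ← mul_assoc, hk,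
          mul_inv_cancel_left]
    have hkp : k ^ p = 1 := by
      have h1 := hrep p
      rw [hτp, MulAut.one_apply] at h1
      exact mul_left_cancel (h1.symm.trans (mul_one x).symm)
    have hk1 : k = 1 := orderOf_eq_one_iff.mp (Nat.eq_one_of_dvd_coprimes hXp
      (orderOf_dvd_natCard k) (orderOf_dvd_of_pow_eq_one hkp))
    rw [hk, inv_mul_eq_one] at hk1
    exact hk1.symm
  intro q x hx
  by_contra hne
  haveI : Fact (q : ℕ).Prime := ⟨q.2⟩
  obtain ⟨R, hR⟩ := exists_minimal_of_wellFoundedLT
    (fun R : Subgroup X => IsPGroup (q : ℕ) R ∧ R ≤ Cfsg.pCore (q : ℕ) X ∧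
      (∀ y, y ∈ R ↔ θ y ∈ R) ∧ ∃ y ∈ R, τ y ≠ y)
    ⟨Cfsg.pCore (q : ℕ) X, CfsgLib.Core.isPGroup_pCore _ _, le_rfl, mem_iff_of_char θ _, x, hx, hne⟩
  obtain ⟨hRq, hRle, hRθ, y, hy, hyne⟩ := hR.prop
  have hRne : Nat.card R ≠ 1 := fun h1 => hyne (by
    rw [Subgroup.card_eq_one.mp h1, Subgroup.mem_bot] at hy
    rw [hy, map_one])
  have hpq : p ≠ (q : ℕ) := by
    intro h
    obtain ⟨a, ha⟩ := IsPGroup.iff_card.mp hRq
    have h1 : p ∣ Nat.card R := by
      rw [ha, h]
      exact dvd_pow_self _ fun h0 => hRne (by rw [ha, h0, pow_zero])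
    exact hp.out.ne_one (Nat.eq_one_of_dvd_coprimes
      (hXp.coprime_dvd_left R.card_subgroup_dvd_card) h1 dvd_rfl)
  have hqr : (q : ℕ) ≠ r := by
    intro h
    refine hRne (Subgroup.card_eq_one.mpr (le_bot_iff.mp ?_))
    rw [h, hcore] at hRle
    exact hRle
  set φ : MulAut R := Alperin.restrict θ R hRθ with hφ
  have hφpow : ∀ (k : ℕ) (z : R), (((φ ^ k) z : R) : X) = (θ ^ k) z := fun k z => restrict_pow _ _ _ k z
  have hmin : Minimal' p (q : ℕ) n φ :=
    { isPGroup := hRq
      pow := MulEquiv.ext fun z => Subtype.ext (by rw [hφpow, hθn]; rfl)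
      one_le := hn
      ne := fun h1 => hyne (by
        have := congrArg Subtype.val (MulEquiv.congr_fun h1 ⟨y, hy⟩)
        rwa [hφpow] at this)
      min := fun T hT hTne z hz => by
        by_contra hzne
        have hTR : T.map R.subtype ≤ R := Subgroup.map_subtype_le T
        have hP : IsPGroup (q : ℕ) (T.map R.subtype) ∧ T.map R.subtype ≤ Cfsg.pCore (q : ℕ) X ∧
            (∀ w, w ∈ T.map R.subtype ↔ θ w ∈ T.map R.subtype) ∧ ∃ w ∈ T.map R.subtype, τ w ≠ w := by
          refine ⟨hRq.to_le hTR, hTR.trans hRle, fun w => ?_, z, Subgroup.mem_map_of_mem _ hz, fun hh => hzne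
            (Subtype.ext (by rw [hφpow]; exact hh))⟩
          constructor
          · rintro ⟨a, ha, rfl⟩
            exact ⟨φ a, (hT a).mp ha, rfl⟩
          · rintro ⟨a, ha, haw⟩
            refine ⟨φ.symm a, (hT _).mpr (by rwa [MulEquiv.apply_symm_apply]), θ.injective ?_⟩
            rw [← haw]
            exact congrArg Subtype.val (φ.apply_symm_apply a)
        have := hR.eq_of_le hP hTR
        refine hTne (Subgroup.map_injective R.subtype_injective ?_)
        rw [← MonoidHom.range_eq_map, Subgroup.range_subtype]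
        first | exact this | exact this.symm }
  -- the module over an algebraically closed field
  have instV : Module (ZMod r) (Additive V) :=
    AddCommGroup.zmodModule fun v => congrArg Additive.ofMul (hV (Additive.toMul v))
  let L : MulAut V →* Module.End (ZMod r) (Additive V) :=
    { toFun := fun a => ((MonoidHom.toAdditive a.toMonoidHom).toZModLinearMap r :
        Additive V →ₗ[ZMod r] Additive V)
      map_one' := by
        refine LinearMap.ext fun v => ?_
        rw [AddMonoidHom.coe_toZModLinearMap]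
        rfl
      map_mul' := fun a b => by
        refine LinearMap.ext fun v => ?_
        rw [Module.End.mul_apply, AddMonoidHom.coe_toZModLinearMap, AddMonoidHom.coe_toZModLinearMap,
          AddMonoidHom.coe_toZModLinearMap]
        rfl }
  have hLinj : Function.Injective L := fun a b hab => MulEquiv.ext fun v => by
    have h1 := LinearMap.congr_fun hab (Additive.ofMul v)
    simp only [L, MonoidHom.coe_mk, OneHom.coe_mk, AddMonoidHom.coe_toZModLinearMap] at h1
    exact congrArg Additive.toMul h1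
  haveI : Module.Finite (ZMod r) (Additive V) := Module.Finite.of_finite
  have hpr : p ≠ r := by
    rintro rfl
    obtain ⟨v, hv⟩ := exists_ne (1 : V)
    have h1 : orderOf v ∣ p := orderOf_dvd_of_pow_eq_one (hV v)
    exact hv (orderOf_eq_one_iff.mp (Nat.eq_one_of_dvd_coprimes hVp (orderOf_dvd_natCard v) h1))
  have hne0 : ∀ l : ℕ, l.Prime → l ≠ r → (l : ZMod r) ≠ 0 := fun l hl hlr h0 => hlr
    ((Nat.prime_dvd_prime_iff_eq hr.out hl).mp ((ZMod.natCast_eq_zero_iff _ _).mp h0)).symm
  obtain ⟨v, hv0, hv⟩ := exists_fixed_of_finite_field hodd hpq (hne0 p hp.out hpr)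
    (hne0 _ q.2 hqr) hmin (fun z hz => Subtype.ext (hθfix z (congrArg Subtype.val hz)))
    (L.comp (X.subtype.comp R.subtype)) (hLinj.comp (X.subtype_injective.comp R.subtype_injective))
    (L s) (fun z => by
      show L s * L ((z : X) : MulAut V) = L (((φ z : R) : X) : MulAut V) * L s
      rw [← map_mul, ← map_mul]
      congr 1
      show s * ((z : X) : MulAut V) = MulAut.conj s ((z : X) : MulAut V) * s
      rw [MulAut.conj_apply, inv_mul_cancel_right])
    (by rw [← map_pow, hsn, map_one])
  simp only [L, MonoidHom.coe_mk, OneHom.coe_mk, AddMonoidHom.coe_toZModLinearMap] at hv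
  exact hv0 (congrArg Additive.ofMul (hsV (Additive.toMul v) (congrArg Additive.toMul hv)))

variable {G : Type u} [Group G] [Finite G]

/-- The statement modulo `O_r` if `O_{r'}(G) = 1`. -/
theorem top_mem_pCore (hodd : Odd p) (hG : Group.IsSolvable G) {n : ℕ} (hn : 1 ≤ n) {σ : MulAut G}
    (hσ : σ ^ p ^ n = 1) (hfpf : ∀ g : G, σ g = g → g = 1) {r : ℕ} [hr : Fact r.Prime]
    (hO : Cfsg.pPrimeCore r G = ⊥) :
    ∀ g : G, g⁻¹ * (σ ^ p ^ (n - 1)) g ∈ Cfsg.pCore r G := by
  classical
  haveI := hG
  set R := Cfsg.pCore r G with hR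
  have hRr : IsPGroup r R := CfsgLib.Core.isPGroup_pCore r _
  haveI : R.Characteristic := by rw [hR]; infer_instance
  set Φ := frattini R with hΦ
  set β := Alperin.restrict σ R (mem_iff_of_char σ R) with hβ
  letI : CommGroup (R ⧸ Φ) :=
    { (inferInstance : Group (R ⧸ Φ)) with
      mul_comm := fun x y => by
        induction x using QuotientGroup.induction_on with
        | H x =>
        induction y using QuotientGroup.induction_on with
        | H y =>
        show ((x * y : R) : R ⧸ Φ) = ((y * x : R) : R ⧸ Φ)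
        rw [QuotientGroup.eq]
        have := commutator_le_frattini' hRr
          (Subgroup.commutator_mem_commutator (Subgroup.mem_top y⁻¹) (Subgroup.mem_top x⁻¹))
        simpa [commutatorElement_def, mul_assoc] using this }
  have hV : ∀ v : R ⧸ Φ, v ^ r = 1 := by
    intro v
    induction v using QuotientGroup.induction_on with
    | H x =>
      rw [← QuotientGroup.mk_pow]
      exact (QuotientGroup.eq_one_iff _).mpr (pow_mem_frattini hRr x)
  let act : G →* MulAut (R ⧸ Φ) := MonoidHom.mk'
    (fun g => onQuot (MulAut.conjNormal g : MulAut R) Φ (mem_iff_of_char _ Φ)) fun g h => by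
      refine MulEquiv.ext fun q => ?_
      induction q using QuotientGroup.induction_on with
      | H x =>
        show ((MulAut.conjNormal (g * h) x : R) : R ⧸ Φ) =
          ((MulAut.conjNormal g (MulAut.conjNormal h x : R) : R) : R ⧸ Φ)
        rw [map_mul, MulAut.mul_apply]
  set D := act.ker with hD
  have hDp : IsPGroup r D := by
    intro d
    obtain ⟨k, m, hm, hord⟩ := Nat.exists_eq_pow_mul_and_not_dvd (orderOf_pos (d : G)).ne' r
      hr.out.ne_one
    refine ⟨k, ?_⟩
    set u := (d : G) ^ r ^ k with hu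
    have hum : u ^ m = 1 := by rw [hu, ← pow_mul, ← hord, pow_orderOf_eq_one]
    have huc : (Nat.card (Subgroup.zpowers u)).Coprime r := by
      rw [Nat.card_zpowers]
      exact (((hr.out.coprime_iff_not_dvd).mpr hm).symm).coprime_dvd_left
        (orderOf_dvd_of_pow_eq_one hum)
    have huR : Subgroup.zpowers u ≤ Subgroup.centralizer (R : Set G) := by
      obtain ⟨f, hf⟩ := IsPGroup.iff_card.mp (hRr.to_subgroup (frattini R))
      refine CfsgLib.Core.centralizes_of_centralizes_frattini_quotient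
        Subgroup.le_normalizer_of_normal (hf ▸ huc.pow_right f) fun w hw x hx => ?_
      have hwD : w ∈ D := (Subgroup.zpowers_le.mpr (D.pow_mem d.2 _)) hw
      have h1 : ((MulAut.conjNormal w ⟨x, hx⟩ : R) : R ⧸ Φ) = ((⟨x, hx⟩ : R) : R ⧸ Φ) :=
        MulEquiv.congr_fun (MonoidHom.mem_ker.mp hwD) ((⟨x, hx⟩ : R) : R ⧸ Φ)
      rw [QuotientGroup.eq_iff_div_mem] at h1
      exact ⟨_, h1, by simp [div_eq_mul_inv]⟩
    have h1 : u ∈ R :=
      (CfsgLib.Core.centralizer_pCore_le_of_pPrimeCore_eq_bot (G := G) hO) (huR (Subgroup.mem_zpowers u))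
    obtain ⟨f, hf⟩ := hRr ⟨u, h1⟩
    have h2 : u ^ r ^ f = 1 := by simpa using congrArg Subtype.val hf
    have h3 := pow_gcd_eq_one.mpr (⟨h2, hum⟩ : u ^ r ^ f = 1 ∧ u ^ m = 1)
    rw [(((hr.out.coprime_iff_not_dvd).mpr hm).pow_left f).gcd_eq_one, pow_one] at h3
    exact Subtype.ext (by simpa [hu] using h3)
  have hDR : D ≤ R := CfsgLib.Core.le_pCore hDp
  set s : MulAut (R ⧸ Φ) := onQuot β Φ (mem_iff_of_char β Φ) with hs
  have hsn : s ^ p ^ n = 1 := MulEquiv.ext fun v => by
    induction v using QuotientGroup.induction_on with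
    | H x =>
      rw [onQuot_pow, show (β ^ p ^ n) x = x from Subtype.ext (by rw [restrict_pow, hσ]; rfl)]
      rfl
  have hconj : ∀ g, MulAut.conj s (act g) = act (σ g) := by
    intro g
    rw [MulAut.conj_apply, mul_inv_eq_iff_eq_mul]
    refine MulEquiv.ext fun v => ?_
    induction v using QuotientGroup.induction_on with
    | H x =>
      show ((β (MulAut.conjNormal g x : R) : R) : R ⧸ Φ) =
        ((MulAut.conjNormal (σ g) (β x) : R) : R ⧸ Φ)
      congr 1
      refine Subtype.ext ?_
      simp [hβ, restrict_apply, map_mul, map_inv]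
  have hnorm : ∀ a, a ∈ act.range ↔ MulAut.conj s a ∈ act.range := by
    intro a
    constructor
    · rintro ⟨g, rfl⟩; exact ⟨σ g, (hconj g).symm⟩
    · rintro ⟨g, hg⟩
      refine ⟨σ.symm g, (MulAut.conj s).injective ?_⟩
      rw [hconj, MulEquiv.apply_symm_apply, hg]
  have hσR : R.map σ.toMonoidHom = R := map_of_iff σ R (mem_iff_of_char σ R)
  have hkerR : ∀ g, g ∈ R → act g = 1 := by
    intro g hg
    refine MulEquiv.ext fun v => ?_
    induction v using QuotientGroup.induction_on with
    | H x =>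
      show ((MulAut.conjNormal g x : R) : R ⧸ Φ) = (x : R ⧸ Φ)
      rw [show (MulAut.conjNormal g x : R) = ⟨g, hg⟩ * x * (⟨g, hg⟩ : R)⁻¹ from Subtype.ext (by simp),
        QuotientGroup.mk_mul, QuotientGroup.mk_mul, QuotientGroup.mk_inv, mul_comm (_ : R ⧸ Φ),
        ← mul_assoc, inv_mul_cancel, one_mul]
  have hcore : Cfsg.pCore r act.range = ⊥ := by
    set T := (Cfsg.pCore r act.range).comap act.rangeRestrict with hT
    have hTr : IsPGroup r T := (CfsgLib.Core.isPGroup_pCore r _).comap_of_ker_isPGroup _ (by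
      rw [MonoidHom.ker_rangeRestrict]; exact hRr.to_le hDR)
    haveI : T.Normal := Subgroup.Normal.comap inferInstance _
    have hle : T ≤ R := CfsgLib.Core.le_pCore hTr
    rw [eq_bot_iff]
    intro a ha
    obtain ⟨g, rfl⟩ := act.rangeRestrict_surjective a
    exact Subtype.ext (hkerR g (hle ha))
  haveI : Group.IsSolvable act.range := Group.isSolvable_of_surjective act.rangeRestrict_surjective
  have hbfix : ∀ v, s v = v → v = 1 := fun v hv =>
    CfsgLib.Core.FPFFour.quotient_eq_one_of_fixed (G := R) (φ := β)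
      (fun x hx => Subtype.ext (hfpf _ (congrArg Subtype.val hx))) Φ
      (map_of_iff β Φ (mem_iff_of_char β Φ)) v hv
  have hXfix : ∀ a ∈ act.range, MulAut.conj s a = a → a = 1 := by
    rintro _ ⟨g, rfl⟩ hfix
    rw [hconj] at hfix
    have h1 : g⁻¹ * σ g ∈ D := by rw [hD, MonoidHom.mem_ker, map_mul, map_inv, hfix, inv_mul_cancel]
    refine hkerR g ((QuotientGroup.eq_one_iff g).mp ?_)
    exact CfsgLib.Core.FPFFour.quotient_eq_one_of_fixed hfpf R hσR _ (QuotientGroup.eq.mpr (hDR h1)).symm
  intro g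
  have h := centralizes_of_no_fixed_vector hodd hn hV hcore hnorm hsn hbfix hXfix (act g) ⟨g, rfl⟩
  have hconjk : ∀ (k : ℕ) g, MulAut.conj (s ^ k) (act g) = act ((σ ^ k) g) := by
    intro k
    induction k with
    | zero => intro g; simp
    | succ k ih =>
      intro g
      rw [pow_succ', map_mul, MulAut.mul_apply, ih, hconj, pow_succ', MulAut.mul_apply]
  rw [hconjk] at h
  exact hDR (by rw [hD, MonoidHom.mem_ker, map_mul, map_inv, h, inv_mul_cancel])

/-- `[G, τ] ≤ F(G)`. -/
theorem top_mem_fitting (hodd : Odd p) (hG : Group.IsSolvable G) {n : ℕ} (hn : 1 ≤ n) {σ : MulAut G}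
    (hσ : σ ^ p ^ n = 1) (hfpf : ∀ g : G, σ g = g → g = 1) (g : G) :
    g⁻¹ * (σ ^ p ^ (n - 1)) g ∈ Cfsg.fittingSubgroup G := by
  classical
  haveI := hG
  let ι := {r : ℕ // r ∈ (Nat.card G).primeFactors}
  have hmem : ∀ r : ι, QuotientGroup.mk' (Cfsg.pPrimeCore (r : ℕ) G) (g⁻¹ * (σ ^ p ^ (n - 1)) g) ∈
      Cfsg.pCore (r : ℕ) (G ⧸ Cfsg.pPrimeCore (r : ℕ) G) := by
    intro r
    haveI : Fact (r : ℕ).Prime := ⟨Nat.prime_of_mem_primeFactors r.2⟩
    set N := Cfsg.pPrimeCore (r : ℕ) G with hN
    haveI : N.Characteristic := by rw [hN]; infer_instance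
    let σ1 := onQuot σ N (mem_iff_of_char σ N)
    have h1 : σ1 ^ p ^ n = 1 := MulEquiv.ext fun a => by
      induction a using QuotientGroup.induction_on with
      | H x => rw [onQuot_pow, hσ]; rfl
    have h2 : ∀ a, σ1 a = a → a = 1 := fun a ha =>
      CfsgLib.Core.FPFFour.quotient_eq_one_of_fixed hfpf N (map_of_iff σ N (mem_iff_of_char σ N)) a ha
    have h3 := top_mem_pCore hodd (inferInstance : Group.IsSolvable (G ⧸ N)) hn h1 h2 (r := (r : ℕ))
      (CfsgLib.Core.pPrimeCore_quotient_pPrimeCore _ G) (g : G ⧸ N)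
    rw [onQuot_pow] at h3
    exact h3
  -- the intersection of the `O_{r',r}` is nilpotent
  let K : Subgroup G := ⨅ r : ι, (Cfsg.pCore (r : ℕ) (G ⧸ Cfsg.pPrimeCore (r : ℕ) G)).comap
    (QuotientGroup.mk' (Cfsg.pPrimeCore (r : ℕ) G))
  haveI : K.Normal := Subgroup.normal_iInf_normal fun r => Subgroup.Normal.comap inferInstance _
  let f : K →* ((r : ι) → Cfsg.pCore (r : ℕ) (G ⧸ Cfsg.pPrimeCore (r : ℕ) G)) :=
    Pi.monoidHom fun r => ((QuotientGroup.mk' _).comp K.subtype).codRestrict _ fun x =>
      (Subgroup.mem_iInf.mp x.2 r : _)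
  have hKnil : Group.IsNilpotent K := by
    haveI : ∀ r : ι, Group.IsNilpotent (Cfsg.pCore (r : ℕ) (G ⧸ Cfsg.pPrimeCore (r : ℕ) G)) :=
      fun r => haveI : Fact (r : ℕ).Prime := ⟨Nat.prime_of_mem_primeFactors r.2⟩
        (CfsgLib.Core.isPGroup_pCore (r : ℕ) _).isNilpotent
    refine _root_.isNilpotent_of_ker_le_center f ?_
    intro x hx
    have hall : ∀ r : ι, (x : G) ∈ Cfsg.pPrimeCore (r : ℕ) G := fun r =>
      (QuotientGroup.eq_one_iff _).mp (congrArg Subtype.val (congrFun (MonoidHom.mem_ker.mp hx) r))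
    have hx1 : orderOf (x : G) = 1 := by
      by_contra hne
      obtain ⟨l, hl, hld⟩ := Nat.exists_prime_and_dvd hne
      have hlG : l ∈ (Nat.card G).primeFactors :=
        Nat.mem_primeFactors.mpr ⟨hl, hld.trans (orderOf_dvd_natCard _), Nat.card_pos.ne'⟩
      exact hl.ne_one (Nat.eq_one_of_dvd_coprimes (CfsgLib.Core.coprime_card_pPrimeCore l G)
        (hld.trans (Subgroup.orderOf_dvd_natCard _ (hall ⟨l, hlG⟩))) dvd_rfl)
    have : x = 1 := Subtype.ext (orderOf_eq_one_iff.mp hx1)
    exact this ▸ one_mem _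
  exact CfsgLib.Core.le_fittingSubgroup hKnil (Subgroup.mem_iInf.mpr hmem)

/-- The theorem of Shult and Gross. -/
theorem height_le (hodd : Odd p) : ∀ (n : ℕ) (G : Type u) [Group G] [Finite G],
    Group.IsSolvable G → ∀ σ : MulAut G, σ ^ p ^ n = 1 → (∀ g : G, σ g = g → g = 1) →
      ∃ F : Fin (n + 1) → Subgroup G, F 0 = ⊥ ∧ F (Fin.last n) = ⊤ ∧ Monotone F ∧
        (∀ i, (F i).Normal) ∧
        ∀ i : Fin n, ∃ k : ℕ, (F i.succ).lowerCentralSeries k ≤ F i.castSucc := by
  intro n
  induction n with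
  | zero =>
    intro G _ _ _ σ hσ hfpf
    rw [pow_zero, pow_one] at hσ
    have htop : (⊤ : Subgroup G) = ⊥ := (eq_bot_iff).mpr fun g _ =>
      Subgroup.mem_bot.mpr (hfpf g (by rw [hσ]; rfl))
    exact ⟨fun _ => ⊥, rfl, htop.symm, monotone_const, fun _ => inferInstance, fun i => i.elim0⟩
  | succ n ih =>
    intro G _ _ hG σ hσ hfpf
    haveI := hG
    set N := Cfsg.fittingSubgroup G with hN
    haveI : N.Characteristic := by rw [hN]; infer_instance
    let σ1 := onQuot σ N (mem_iff_of_char σ N)
    have h1 : σ1 ^ p ^ n = 1 := MulEquiv.ext fun a => by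
      induction a using QuotientGroup.induction_on with
      | H x =>
        rw [onQuot_pow, MulAut.one_apply, eq_comm, QuotientGroup.eq]
        exact top_mem_fitting hodd hG (Nat.le_add_left 1 n) hσ hfpf x
    have h2 : ∀ a, σ1 a = a → a = 1 := fun a ha =>
      CfsgLib.Core.FPFFour.quotient_eq_one_of_fixed hfpf N (map_of_iff σ N (mem_iff_of_char σ N)) a ha
    obtain ⟨F, hF0, hFlast, hFmono, hFn, hFnil⟩ :=
      ih (G ⧸ N) (inferInstance : Group.IsSolvable (G ⧸ N)) σ1 h1 h2
    refine ⟨Fin.cons ⊥ fun i => (F i).comap (QuotientGroup.mk' N), Fin.cons_zero _ _, ?_, ?_, ?_, ?_⟩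
    · rw [← Fin.succ_last, Fin.cons_succ, hFlast, Subgroup.comap_top]
    · refine Fin.monotone_iff_le_succ.mpr fun i => ?_
      refine Fin.cases ?_ (fun i => ?_) i
      · exact bot_le
      · rw [← Fin.succ_castSucc, Fin.cons_succ, Fin.cons_succ]
        exact Subgroup.comap_mono (Fin.monotone_iff_le_succ.mp hFmono i)
    · intro i
      refine Fin.cases ?_ (fun i => ?_) i
      · rw [Fin.cons_zero]; infer_instance
      · rw [Fin.cons_succ]; exact (hFn i).comap _
    · intro i
      refine Fin.cases ?_ (fun i => ?_) i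
      · rw [Fin.castSucc_zero, Fin.cons_zero, Fin.cons_succ, hF0]
        have hk : (⊥ : Subgroup (G ⧸ N)).comap (QuotientGroup.mk' N) = N := by
          rw [MonoidHom.comap_bot, QuotientGroup.ker_mk']
        rw [hk]
        haveI : Group.IsNilpotent N := CfsgLib.Core.isNilpotent_fittingSubgroup G
        obtain ⟨k, hk⟩ := _root_.nilpotent_iff_lowerCentralSeries.mp (inferInstance : Group.IsNilpotent N)
        refine ⟨k, ?_⟩
        have hmap : ∀ j, ((⊤ : Subgroup N).lowerCentralSeries j).map N.subtype = N.lowerCentralSeries j := by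
          intro j
          induction j with
          | zero => rw [Subgroup.lowerCentralSeries_zero, Subgroup.lowerCentralSeries_zero,
              ← MonoidHom.range_eq_map, Subgroup.range_subtype]
          | succ j ihj => rw [Subgroup.lowerCentralSeries_succ, Subgroup.lowerCentralSeries_succ,
              Subgroup.map_commutator, ihj, ← MonoidHom.range_eq_map, Subgroup.range_subtype]
        rw [← hmap, hk, Subgroup.map_bot]
      · obtain ⟨k, hk⟩ := hFnil i
        refine ⟨k, ?_⟩
        rw [← Fin.succ_castSucc, Fin.cons_succ, Fin.cons_succ]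
        have hle : ∀ j, (((F i.succ).comap (QuotientGroup.mk' N)).lowerCentralSeries j).map
            (QuotientGroup.mk' N) ≤ (F i.succ).lowerCentralSeries j := by
          intro j
          induction j with
          | zero => exact Subgroup.map_comap_le _ _
          | succ j ihj =>
            rw [Subgroup.lowerCentralSeries_succ, Subgroup.lowerCentralSeries_succ, Subgroup.map_commutator]
            exact Subgroup.commutator_mono ihj (Subgroup.map_comap_le _ _)
        exact Subgroup.map_le_iff_le_comap.mp ((hle k).trans hk)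

end CfsgLib.PGroups.ShultGross
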